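import Cfsg.Agent.Lib.InvChar.BSW.Count
import Mathlib.GroupTheory.Index
import Mathlib.GroupTheory.Coset.Card
import Mathlib.Algebra.Group.Subgroup.Pointwise
import Mathlib.Tactic.Group

/-!
A trivial-intersection subgroup with odd centralisers: involutions in cosets.
-/

set_option autoImplicit false
set_option linter.style.haveILetI false
set_option linter.unusedSectionVars false

open Subgroup

namespace CfsgLib.TICount

variable {G : Type*} [Group G]

local notation "C(" x ")" => Subgroup.centralizer ({x} : Set _)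
local notation "NN(" M ")" => Subgroup.normalizer (SetLike.coe M)

/-- The standing hypotheses. -/
structure Setting (M : Subgroup G) (z : G) : Prop where
  ne : M ≠ ⊥
  ti : ∀ g : G, M ⊓ M.map (MulAut.conj g).toMonoidHom ≠ ⊥ → M.map (MulAut.conj g).toMonoidHom = M
  hz : orderOf z = 2
  hzN : z ∈ NN(M)
  fac : M ⊔ (NN(M) ⊓ C(z)) = NN(M)
  odd : ∀ x ∈ M, x ≠ 1 → Odd (Nat.card C(x))

theorem conj_mem_of_mem {M : Subgroup G} {n x : G} (hn : n ∈ NN(M)) (hx : x ∈ M) : n * x * n⁻¹ ∈ M :=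
  (Subgroup.mem_normalizer_iff.1 hn x).1 hx

theorem mem_cent {a g : G} : g ∈ C(a) ↔ g * a = a * g := by
  rw [Subgroup.mem_centralizer_singleton_iff]

/-- A self-inverse element of order two. -/
theorem invol_iff {t : G} : orderOf t = 2 ↔ t * t = 1 ∧ t ≠ 1 := by
  haveI : Fact (Nat.Prime 2) := ⟨Nat.prime_two⟩
  rw [orderOf_eq_prime_iff, pow_two]

theorem orderOf_conj' (a b : G) : orderOf (a * b * a⁻¹) = orderOf b :=
  orderOf_injective (MulAut.conj a).toMonoidHom (MulAut.conj a).injective b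

theorem orderOf_conj'' (a b : G) : orderOf (a⁻¹ * b * a) = orderOf b := by
  simpa using orderOf_conj' a⁻¹ b

namespace Setting

variable {M : Subgroup G} {z : G} (h : Setting M z)
include h

theorem zz : z * z = 1 := (invol_iff.1 h.hz).1

theorem z_ne : z ≠ 1 := (invol_iff.1 h.hz).2

theorem z_inv : z⁻¹ = z := inv_eq_of_mul_eq_one_right h.zz

theorem z_mem : z ∈ NN(M) ⊓ C(z) := ⟨h.hzN, mem_cent.2 rfl⟩

theorem mem_N_of_conj {g x : G} (hx : x ∈ M) (hx1 : x ≠ 1) (hg : g * x * g⁻¹ ∈ M) : g ∈ NN(M) := by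
  have h1 : M ⊓ M.map (MulAut.conj g).toMonoidHom ≠ ⊥ := by
    intro hb
    have h2 : g * x * g⁻¹ ∈ M ⊓ M.map (MulAut.conj g).toMonoidHom := ⟨hg, x, hx, rfl⟩
    rw [hb, Subgroup.mem_bot, conj_eq_one_iff] at h2
    exact hx1 h2
  have h3 := h.ti g h1
  rw [Subgroup.mem_normalizer_iff]
  intro y
  constructor
  · intro hy
    rw [← h3]
    exact ⟨y, hy, rfl⟩
  · intro hy
    rw [← h3] at hy
    obtain ⟨w, hw, he⟩ := hy
    have : w = y := (MulAut.conj g).injective he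
    exact this ▸ hw

/-- No involution centralises a non-identity element of `M`. -/
theorem not_comm_invol [Finite G] {x u : G} (hx : x ∈ M) (hx1 : x ≠ 1) (hu : orderOf u = 2)
    (hc : u * x = x * u) : False := by
  have h1 : orderOf (⟨u, mem_cent.2 hc⟩ : C(x)) ∣ Nat.card C(x) := orderOf_dvd_natCard _
  rw [Subgroup.orderOf_mk, hu] at h1
  exact Nat.not_even_iff_odd.2 (h.odd x hx hx1) (even_iff_two_dvd.2 h1)

theorem odd_card [Finite G] : Odd (Nat.card M) := by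
  by_contra he
  haveI : Fact (Nat.Prime 2) := ⟨Nat.prime_two⟩
  obtain ⟨x, hx⟩ := exists_prime_orderOf_dvd_card' 2 (G := M)
    (even_iff_two_dvd.1 (Nat.not_odd_iff_even.1 he))
  refine h.not_comm_invol x.2 ?_ (u := (x : G)) (by rw [Subgroup.orderOf_coe, hx]) rfl
  intro e
  rw [show x = 1 from Subtype.ext e, orderOf_one] at hx
  norm_num at hx

theorem z_inverts [Finite G] {m : G} (hm : m ∈ M) : z * m * z⁻¹ = m⁻¹ := by
  refine CfsgLib.InvChar.BSW.inverts_of_fpf h.odd_card h.zz (fun a ha => conj_mem_of_mem h.hzN ha) ?_ hm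
  intro a ha hfix
  by_contra h1
  exact h.not_comm_invol ha h1 h.hz (mul_inv_eq_iff_eq_mul.1 hfix)

theorem M_comm [Finite G] {a b : G} (ha : a ∈ M) (hb : b ∈ M) : a * b = b * a := by
  have h1 := h.z_inverts (M.mul_mem ha hb)
  have h2 : z * (a * b) * z⁻¹ = (z * a * z⁻¹) * (z * b * z⁻¹) := by group
  rw [h2, h.z_inverts ha, h.z_inverts hb, mul_inv_rev] at h1
  calc a * b = (b⁻¹ * a⁻¹)⁻¹ := by group
    _ = (a⁻¹ * b⁻¹)⁻¹ := by rw [h1]
    _ = b * a := by group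

theorem eq_one_of_comm_z [Finite G] {m : G} (hm : m ∈ M) (hc : m * z = z * m) : m = 1 := by
  by_contra h1
  exact h.not_comm_invol hm h1 h.hz hc.symm

theorem eq_one_of_mem [Finite G] {m : G} (hm : m ∈ M) (hc : m ∈ NN(M) ⊓ C(z)) : m = 1 :=
  h.eq_one_of_comm_z hm (mem_cent.1 hc.2)

theorem eq_one_of_sq [Finite G] {m : G} (hm : m ∈ M) (h2 : m * m = 1) : m = 1 :=
  CfsgLib.InvChar.BSW.eq_one_of_sq_of_odd h.odd_card hm (by rw [pow_two, h2])

theorem exists_decomp {n : G} (hn : n ∈ NN(M)) :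
    ∃ c ∈ NN(M) ⊓ C(z), ∃ m ∈ M, n = c * m := by
  have h1 : n ∈ (NN(M) ⊓ C(z)) ⊔ M := by rw [sup_comm, h.fac]; exact hn
  rw [← SetLike.mem_coe, Subgroup.coe_mul_of_left_le_normalizer_right _ _ inf_le_left,
    Set.mem_mul] at h1
  obtain ⟨c, hc, m, hm, rfl⟩ := h1
  exact ⟨c, hc, m, hm, rfl⟩

theorem decomp_unique [Finite G] {c c' m m' : G} (hc : c ∈ NN(M) ⊓ C(z)) (hc' : c' ∈ NN(M) ⊓ C(z))
    (hm : m ∈ M) (hm' : m' ∈ M) (he : c * m = c' * m') : c = c' ∧ m = m' := by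
  have e : c'⁻¹ * c = m' * m⁻¹ := by
    calc c'⁻¹ * c = c'⁻¹ * (c * m) * m⁻¹ := by group
      _ = m' * m⁻¹ := by rw [he]; group
  have h1 : c'⁻¹ * c = 1 :=
    h.eq_one_of_mem (e ▸ M.mul_mem hm' (M.inv_mem hm)) (mul_mem (inv_mem hc') hc)
  have h2 : c = c' := (inv_mul_eq_one.1 h1).symm
  subst h2
  exact ⟨rfl, mul_left_cancel he⟩

theorem card_N [Finite G] : Nat.card ↥(NN(M)) = Nat.card ↥(NN(M) ⊓ C(z)) * Nat.card M := by
  rw [← Nat.card_prod]
  refine (Nat.card_eq_of_bijective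
    (fun p : ↥(NN(M) ⊓ C(z)) × M => (⟨(p.1 : G) * p.2, mul_mem p.1.2.1 (Subgroup.le_normalizer p.2.2)⟩ : NN(M))) ⟨?_, ?_⟩).symm
  · intro p p' he
    obtain ⟨h1, h2⟩ := h.decomp_unique p.1.2 p'.1.2 p.2.2 p'.2.2 (congrArg Subtype.val he)
    exact Prod.ext (Subtype.ext h1) (Subtype.ext h2)
  · rintro ⟨n, hn⟩
    obtain ⟨c, hc, m, hm, rfl⟩ := h.exists_decomp hn
    exact ⟨(⟨c, hc⟩, ⟨m, hm⟩), rfl⟩

/-- The only involution of the complement. -/
theorem cinv_unique [Finite G] {c : G} (hc : c ∈ NN(M) ⊓ C(z)) (h2 : c * c = 1) : c = 1 ∨ c = z := by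
  by_contra hne
  push Not at hne
  have hc2 : orderOf c = 2 := invol_iff.2 ⟨h2, hne.1⟩
  have hcz : c * z = z * c := mem_cent.1 hc.2
  have hcinv : ∀ m ∈ M, c * m * c⁻¹ = m⁻¹ := fun m hm => by
    refine CfsgLib.InvChar.BSW.inverts_of_fpf h.odd_card h2 (fun a ha => conj_mem_of_mem hc.1 ha) ?_ hm
    intro a ha hfix
    by_contra h1
    exact h.not_comm_invol ha h1 hc2 (mul_inv_eq_iff_eq_mul.1 hfix)
  obtain ⟨x, hx, hx1⟩ : ∃ x ∈ M, x ≠ 1 := by
    by_contra hb
    push Not at hb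
    exact h.ne ((Subgroup.eq_bot_iff_forall _).2 hb)
  have h1 : (c * z) * x * (c * z)⁻¹ = x := by
    calc (c * z) * x * (c * z)⁻¹ = c * (z * x * z⁻¹) * c⁻¹ := by group
      _ = x := by rw [h.z_inverts hx, hcinv _ (M.inv_mem hx), inv_inv]
  refine h.not_comm_invol hx hx1 (invol_iff.2 ⟨?_, ?_⟩) (mul_inv_eq_iff_eq_mul.1 h1)
  · calc c * z * (c * z) = c * (z * c) * z := by group
      _ = (c * c) * (z * z) := by rw [← hcz]; group
      _ = 1 := by rw [h2, h.zz, one_mul]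
  · intro e
    exact hne.2 ((eq_inv_of_mul_eq_one_left e).trans h.z_inv)

theorem invol_N_iff [Finite G] {n : G} :
    (n ∈ NN(M) ∧ orderOf n = 2) ↔ ∃ m ∈ M, n = z * m := by
  constructor
  · rintro ⟨hn, hn2⟩
    obtain ⟨hnn, hn1⟩ := invol_iff.1 hn2
    obtain ⟨c, hc, m, hm, rfl⟩ := h.exists_decomp hn
    have e : (c * c) * (c⁻¹ * m * c⁻¹⁻¹ * m) = 1 * 1 := by
      rw [one_mul, ← hnn]; group
    obtain ⟨e1, e2⟩ := h.decomp_unique (mul_mem hc hc) (one_mem _)
      (M.mul_mem (conj_mem_of_mem (inv_mem hc.1) hm) hm) M.one_mem e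
    rcases h.cinv_unique hc e1 with rfl | rfl
    · exfalso
      refine hn1 ?_
      rw [one_mul] at hnn ⊢
      exact h.eq_one_of_sq hm hnn
    · exact ⟨m, hm, rfl⟩
  · rintro ⟨m, hm, rfl⟩
    refine ⟨mul_mem h.hzN (Subgroup.le_normalizer hm), invol_iff.2 ⟨?_, ?_⟩⟩
    · calc z * m * (z * m) = (z * m * z⁻¹) * ((z * z) * m) := by group
        _ = 1 := by rw [h.z_inverts hm, h.zz, one_mul, inv_mul_cancel]
    · intro e
      have hzM : z ∈ M := by
        rw [eq_inv_of_mul_eq_one_left e]; exact M.inv_mem hm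
      exact h.z_ne (h.eq_one_of_sq hzM h.zz)

/-- The involutions of the normaliser are conjugates of `z`. -/
theorem exists_conj_z [Finite G] {n : G} (hn : n ∈ NN(M)) (hn2 : orderOf n = 2) :
    ∃ w ∈ M, n = w * z * w⁻¹ := by
  obtain ⟨m, hm, rfl⟩ := h.invol_N_iff.1 ⟨hn, hn2⟩
  obtain ⟨e, he, hee⟩ := CfsgLib.InvChar.BSW.exists_sq_root h.odd_card hm
  refine ⟨e⁻¹, M.inv_mem he, ?_⟩
  calc z * m = z * (e * e) := by rw [hee]
    _ = (z * e * z⁻¹) * z * e⁻¹⁻¹ := by group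
    _ = e⁻¹ * z * e⁻¹⁻¹ := by rw [h.z_inverts he]

theorem card_invol_N [Finite G] : Nat.card {n : G // n ∈ NN(M) ∧ orderOf n = 2} = Nat.card M :=
  (Nat.card_eq_of_bijective
    (fun m : M => (⟨z * m, h.invol_N_iff.2 ⟨m, m.2, rfl⟩⟩ : {n : G // n ∈ NN(M) ∧ orderOf n = 2}))
    ⟨fun a b e => Subtype.ext (mul_left_cancel (congrArg Subtype.val e)), fun n => by
      obtain ⟨m, hm, e⟩ := h.invol_N_iff.1 n.2
      exact ⟨⟨m, hm⟩, Subtype.ext e.symm⟩⟩).symm

/-- Outside the normaliser a coset of `M` contains at most one involution. -/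
theorem unique_in_coset [Finite G] {t x : G} (ht : t ∉ NN(M)) (ht2 : orderOf t = 2) (hx : x ∈ M)
    (htx : (t * x) * (t * x) = 1) : x = 1 := by
  by_contra hx1
  have htt := (invol_iff.1 ht2).1
  have hti : t⁻¹ = t := inv_eq_of_mul_eq_one_right htt
  refine ht (h.mem_N_of_conj hx hx1 ?_)
  have e : t * x * t⁻¹ = x⁻¹ := by
    rw [hti]
    calc t * x * t = (t * x * (t * x)) * x⁻¹ := by group
      _ = x⁻¹ := by rw [htx, one_mul]
  rw [e]
  exact M.inv_mem hx

theorem mul_out_ne {g x : G} (hg : g ∉ NN(M)) (hx : x ∈ M) : g * x ∉ NN(M) := fun hgx =>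
  hg (by simpa using mul_mem hgx (inv_mem (Subgroup.le_normalizer hx : x ∈ NN(M))))

theorem invol_mul_M_injective [Finite G] :
    Function.Injective (fun p : {t : G // t ∉ NN(M) ∧ orderOf t = 2} × M => (p.1 : G) * p.2) := by
  intro p p' e
  have e' : (p'.1 : G) = p.1 * ((p.2 : G) * (p'.2 : G)⁻¹) := by
    rw [← mul_assoc]
    exact eq_mul_inv_iff_mul_eq.2 e.symm
  have h1 : (p.2 : G) * (p'.2 : G)⁻¹ = 1 := h.unique_in_coset p.1.2.1 p.1.2.2
    (M.mul_mem p.2.2 (M.inv_mem p'.2.2)) (by rw [← e']; exact (invol_iff.1 p'.1.2.2).1)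
  rw [h1, mul_one] at e'
  exact Prod.ext (Subtype.ext e'.symm) (Subtype.ext (mul_inv_eq_one.1 h1))

theorem card_not_mem [Finite G] :
    Nat.card {g : G // g ∉ NN(M)} + Nat.card ↥(NN(M)) = Nat.card G := by
  classical
  rw [← Nat.card_sum]
  exact Nat.card_congr ((Equiv.sumComm _ _).trans (Equiv.sumCompl fun g => g ∈ NN(M)))

theorem card_invol [Finite G] : Nat.card {g : G // orderOf g = 2} =
    Nat.card M + Nat.card {t : G // t ∉ NN(M) ∧ orderOf t = 2} := by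
  classical
  rw [← h.card_invol_N, ← Nat.card_sum]
  refine Nat.card_congr ((Equiv.sumCompl fun g : {g : G // orderOf g = 2} => (g : G) ∈ NN(M)).symm.trans
    (Equiv.sumCongr ?_ ?_))
  · exact (Equiv.subtypeSubtypeEquivSubtypeInter (fun g : G => orderOf g = 2) (fun g => g ∈ NN(M))).trans
      (Equiv.subtypeEquivRight fun g => and_comm)
  · exact (Equiv.subtypeSubtypeEquivSubtypeInter (fun g : G => orderOf g = 2) (fun g => g ∉ NN(M))).trans
      (Equiv.subtypeEquivRight fun g => and_comm)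

/-- If the involutions exceed the index of `M`, every coset outside the normaliser has one. -/
theorem exists_invol_coset [Finite G] (hI : M.index < Nat.card {g : G // orderOf g = 2}) {g : G}
    (hg : g ∉ NN(M)) : ∃ x ∈ M, orderOf (g * x) = 2 := by
  by_contra hno
  push Not at hno
  let f : ({t : G // t ∉ NN(M) ∧ orderOf t = 2} × M) ⊕ (M × M) → {g : G // g ∉ NN(M)} :=
    Sum.elim (fun p => ⟨(p.1 : G) * p.2, h.mul_out_ne p.1.2.1 p.2.2⟩)
      (fun p => ⟨(p.1 : G) * g * p.2, h.mul_out_ne (fun e => hg (by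
        simpa using mul_mem (inv_mem (Subgroup.le_normalizer p.1.2 : (p.1 : G) ∈ NN(M))) e)) p.2.2⟩)
  have hf : Function.Injective f := by
    rintro (p | p) (p' | p') e <;> simp only [f, Sum.elim_inl, Sum.elim_inr, Subtype.mk.injEq] at e
    · exact congrArg Sum.inl (h.invol_mul_M_injective e)
    · exfalso
      refine hno ((p'.2 : G) * (p.2 : G)⁻¹ * p'.1) (M.mul_mem (M.mul_mem p'.2.2 (M.inv_mem p.2.2)) p'.1.2) ?_
      have ha : (g * ((p'.2 : G) * (p.2 : G)⁻¹ * p'.1)) = (p'.1 : G)⁻¹ * p.1 * p'.1 := by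
        have e' : (p.1 : G) = p'.1 * g * p'.2 * (p.2 : G)⁻¹ := eq_mul_inv_iff_mul_eq.2 e
        rw [e']; group
      rw [ha, orderOf_conj'']
      exact p.1.2.2
    · exfalso
      refine hno ((p.2 : G) * (p'.2 : G)⁻¹ * p.1) (M.mul_mem (M.mul_mem p.2.2 (M.inv_mem p'.2.2)) p.1.2) ?_
      have ha : (g * ((p.2 : G) * (p'.2 : G)⁻¹ * p.1)) = (p.1 : G)⁻¹ * p'.1 * p.1 := by
        have e' : (p'.1 : G) = p.1 * g * p.2 * (p'.2 : G)⁻¹ := eq_mul_inv_iff_mul_eq.2 e.symm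
        rw [e']; group
      rw [ha, orderOf_conj'']
      exact p'.1.2.2
    · have h1 : (p'.1 : G)⁻¹ * p.1 = 1 := by
        by_contra hne
        have e2 : g⁻¹ * ((p'.1 : G)⁻¹ * p.1) * g⁻¹⁻¹ ∈ M := by
          have : g⁻¹ * ((p'.1 : G)⁻¹ * p.1) * g⁻¹⁻¹ = (p'.2 : G) * (p.2 : G)⁻¹ := by
            have e' : (p'.2 : G) = g⁻¹ * (p'.1 : G)⁻¹ * (p.1 * g * p.2) := by rw [e]; group
            rw [e']; group
          rw [this]; exact M.mul_mem p'.2.2 (M.inv_mem p.2.2)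
        exact hg (by simpa using inv_mem (h.mem_N_of_conj (M.mul_mem (M.inv_mem p'.1.2) p.1.2) hne e2))
      have h11 : p'.1 = p.1 := Subtype.ext (inv_mul_eq_one.1 h1)
      rw [h11] at e
      exact congrArg Sum.inr (Prod.ext h11.symm (Subtype.ext (mul_left_cancel e)))
  have hle := Nat.card_le_card_of_injective f hf
  rw [Nat.card_sum, Nat.card_prod, Nat.card_prod] at hle
  have h1 := card_not_mem (M := M) h
  have h2 := M.index_mul_card
  have h3 := h.card_invol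
  have h4 : 0 < Nat.card ↥(NN(M)) := Nat.card_pos
  have h5 : Nat.card {g : G // orderOf g = 2} * Nat.card M < M.index * Nat.card M := by
    rw [h3, add_mul]; omega
  exact absurd (Nat.lt_of_mul_lt_mul_right h5) (by omega)

end Setting

end CfsgLib.TICount
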