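import Cfsg.Agent.Lib.TICount.Basic

/-!
Many involutions: the complement is abelian, fixed-point-free and inverted by the involutions outside it.
-/

set_option autoImplicit false
set_option linter.style.haveILetI false
set_option linter.unusedSectionVars false

open Subgroup

namespace CfsgLib.TICount

variable {G : Type*} [Group G]

local notation "C(" x ")" => Subgroup.centralizer ({x} : Set _)
local notation "NN(" M ")" => Subgroup.normalizer (SetLike.coe M)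
local notation "CC(" M "," z ")" => NN(M) ⊓ C(z)

/-- The hypotheses together with the failure of the two easy conclusions. -/
structure Big (M : Subgroup G) (z : G) : Prop extends Setting M z where
  hI : M.index < Nat.card {g : G // orderOf g = 2}
  hnn : ¬ M.Normal

namespace Big

variable [Finite G] {M : Subgroup G} {z : G} (h : Big M z)
include h

theorem exists_not_mem : ∃ g : G, g ∉ NN(M) := by
  by_contra hh
  push Not at hh
  exact h.hnn ⟨fun x hx g => conj_mem_of_mem (hh g) hx⟩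

theorem card_M_pos : 1 < Nat.card M :=
  Subgroup.one_lt_card_iff_ne_bot _ |>.2 h.ne

/-- Every element outside the normaliser is an involution times an element of `M`, uniquely. -/
theorem out_bijective :
    Function.Bijective (fun p : {t : G // t ∉ NN(M) ∧ orderOf t = 2} × M =>
      (⟨(p.1 : G) * p.2, h.mul_out_ne p.1.2.1 p.2.2⟩ : {g : G // g ∉ NN(M)})) := by
  refine ⟨fun p p' e => h.invol_mul_M_injective (congrArg Subtype.val e), fun g => ?_⟩
  obtain ⟨x, hx, hgx⟩ := h.exists_invol_coset h.hI g.2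
  exact ⟨(⟨(g : G) * x, h.mul_out_ne g.2 hx, hgx⟩, ⟨x⁻¹, M.inv_mem hx⟩), Subtype.ext (by simp)⟩

theorem card_out_mul : Nat.card {t : G // t ∉ NN(M) ∧ orderOf t = 2} * Nat.card M +
    Nat.card ↥(CC(M, z)) * Nat.card M = Nat.card G := by
  rw [← h.card_N, ← h.card_not_mem, ← Nat.card_eq_of_bijective _ h.out_bijective, Nat.card_prod]

/-- An outside involution inverts exactly one element of each coset of `M` in the normaliser. -/
theorem exists_inverted {t n : G} (ht : t ∉ NN(M)) (ht2 : orderOf t = 2) (hn : n ∈ NN(M)) :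
    ∃ m ∈ M, t * (n * m) * t⁻¹ = (n * m)⁻¹ := by
  have htn : t * n ∉ NN(M) := fun e => ht (by simpa using mul_mem e (inv_mem hn))
  obtain ⟨m, hm, hm2⟩ := h.exists_invol_coset h.hI htn
  refine ⟨m, hm, ?_⟩
  rw [show t⁻¹ = t from inv_eq_of_mul_eq_one_right (invol_iff.1 ht2).1]
  refine eq_inv_of_mul_eq_one_left ?_
  rw [← (invol_iff.1 hm2).1]
  group

theorem exists_center {t : G} (ht : t ∉ NN(M)) (ht2 : orderOf t = 2) :
    ∃ w ∈ M, t * (w * z * w⁻¹) = (w * z * w⁻¹) * t := by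
  obtain ⟨m, hm, e⟩ := h.exists_inverted ht ht2 h.hzN
  obtain ⟨hN, h2⟩ := h.invol_N_iff.2 ⟨m, hm, rfl⟩
  obtain ⟨w, hw, ew⟩ := h.exists_conj_z hN h2
  refine ⟨w, hw, ?_⟩
  rw [ew, inv_eq_of_mul_eq_one_right (ew ▸ (invol_iff.1 h2).1 : w * z * w⁻¹ * (w * z * w⁻¹) = 1)] at e
  exact mul_inv_eq_iff_eq_mul.1 e

/-- The two-sided meet of `M` with the conjugate of the normaliser is trivial. -/
theorem meet_trivial {t x : G} (ht : t ∉ NN(M)) (ht2 : orderOf t = 2) (hx : x ∈ M)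
    (hv : t * x * t⁻¹ ∈ NN(M)) : x = 1 := by
  by_contra hx1
  obtain ⟨w, hw, hcm⟩ := h.exists_center ht ht2
  have hinv : (w * z * w⁻¹) * x * (w * z * w⁻¹)⁻¹ = x⁻¹ := by
    calc (w * z * w⁻¹) * x * (w * z * w⁻¹)⁻¹ = w * (z * (w⁻¹ * (x * w)) * z⁻¹) * w⁻¹ := by group
      _ = w * (z * x * z⁻¹) * w⁻¹ := by rw [h.M_comm hx hw, inv_mul_cancel_left]
      _ = w * x⁻¹ * w⁻¹ := by rw [h.z_inverts hx]
      _ = x⁻¹ := by rw [h.M_comm hw (M.inv_mem hx), mul_inv_cancel_right]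
  set v := t * x * t⁻¹ with hvdef
  set u := w * z * w⁻¹ with hudef
  have hvinv : u * v * u⁻¹ = v⁻¹ := by
    rw [hvdef]
    calc u * (t * x * t⁻¹) * u⁻¹ = (u * t) * x * (u * t)⁻¹ := by group
      _ = (t * u) * x * (t * u)⁻¹ := by rw [hcm]
      _ = t * (u * x * u⁻¹) * t⁻¹ := by group
      _ = (t * x * t⁻¹)⁻¹ := by rw [hinv]; group
  obtain ⟨c, hc, m, hm, hvcm⟩ := h.exists_decomp hv
  have hcz : c * z = z * c := mem_cent.1 hc.2
  obtain ⟨huN, hu2⟩ : u ∈ NN(M) ∧ orderOf u = 2 :=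
    ⟨mul_mem (mul_mem (Subgroup.le_normalizer hw) h.hzN) (inv_mem (Subgroup.le_normalizer hw)),
      by rw [hudef, orderOf_conj', h.hz]⟩
  obtain ⟨m0, hm0, hu0⟩ := h.invol_N_iff.1 ⟨huN, hu2⟩
  have e1 : c * ((c⁻¹ * (z * m0 * z⁻¹) * c⁻¹⁻¹) * (z * m * z⁻¹) * (z * m0⁻¹ * z⁻¹)) =
      c⁻¹ * (c * m⁻¹ * c⁻¹) := by
    have e2 : u * v * u⁻¹ = c * ((c⁻¹ * (z * m0 * z⁻¹) * c⁻¹⁻¹) * (z * m * z⁻¹) * (z * m0⁻¹ * z⁻¹)) := by
      rw [hu0, hvcm]
      calc z * m0 * (c * m) * (z * m0)⁻¹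
          = (z * m0 * z⁻¹) * (z * c) * m * m0⁻¹ * z⁻¹ := by group
        _ = (z * m0 * z⁻¹) * (c * z) * m * m0⁻¹ * z⁻¹ := by rw [hcz]
        _ = _ := by group
    rw [← e2, hvinv, hvcm]
    group
  have hconj : ∀ {n a : G}, n ∈ NN(M) → a ∈ M → n * a * n⁻¹ ∈ M := fun hn ha => conj_mem_of_mem hn ha
  obtain ⟨ec, -⟩ := h.decomp_unique hc (inv_mem hc)
    (M.mul_mem (M.mul_mem (hconj (inv_mem hc.1) (hconj h.hzN hm0)) (hconj h.hzN hm))
      (hconj h.hzN (M.inv_mem hm0))) (hconj hc.1 (M.inv_mem hm)) e1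
  rcases h.cinv_unique hc (eq_inv_iff_mul_eq_one.1 ec) with rfl | rfl
  · rw [one_mul] at hvcm
    exact ht (h.mem_N_of_conj hx hx1 (by rw [← hvdef, hvcm]; exact hm))
  · have h2 := (h.invol_N_iff.2 ⟨m, hm, hvcm⟩).2
    rw [hvdef, orderOf_conj'] at h2
    exact hx1 (h.eq_one_of_sq hx (invol_iff.1 h2).1)

/-- The two-point stabiliser consists of inverted elements. -/
theorem inverted_of_conj_mem {t n : G} (ht : t ∉ NN(M)) (ht2 : orderOf t = 2) (hn : n ∈ NN(M))
    (hv : t * n * t⁻¹ ∈ NN(M)) : t * n * t⁻¹ = n⁻¹ := by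
  obtain ⟨m, hm, e⟩ := h.exists_inverted ht ht2 hn
  have hm1 : m = 1 := by
    refine h.meet_trivial ht ht2 hm ?_
    have e2 : t * m * t⁻¹ = (t * n * t⁻¹)⁻¹ * (n * m)⁻¹ := by rw [← e]; group
    rw [e2]
    exact mul_mem (inv_mem hv) (inv_mem (mul_mem hn (Subgroup.le_normalizer hm)))
  rwa [hm1, mul_one] at e

theorem inverts_C {t c : G} (ht : t ∉ NN(M)) (ht2 : orderOf t = 2) (htz : t * z = z * t)
    (hc : c ∈ CC(M, z)) : t * c * t⁻¹ = c⁻¹ := by
  obtain ⟨m, hm, e⟩ := h.exists_inverted ht ht2 hc.1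
  have hcz : c * z = z * c := mem_cent.1 hc.2
  have hm' : z * m * z⁻¹ ∈ M := conj_mem_of_mem h.hzN hm
  have e' : t * (c * (z * m * z⁻¹)) * t⁻¹ = (c * (z * m * z⁻¹))⁻¹ := by
    have e2 : c * (z * m * z⁻¹) = z * (c * m) * z⁻¹ := by
      calc c * (z * m * z⁻¹) = (c * z) * m * z⁻¹ := by group
        _ = _ := by rw [hcz]; group
    rw [e2]
    calc t * (z * (c * m) * z⁻¹) * t⁻¹ = (t * z) * (c * m) * (t * z)⁻¹ := by group
      _ = (z * t) * (c * m) * (z * t)⁻¹ := by rw [htz]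
      _ = z * (t * (c * m) * t⁻¹) * z⁻¹ := by group
      _ = _ := by rw [e]; group
  have hm1 : m⁻¹ * (z * m * z⁻¹) = 1 := by
    refine h.meet_trivial ht ht2 (M.mul_mem (M.inv_mem hm) hm') ?_
    have e3 : t * (m⁻¹ * (z * m * z⁻¹)) * t⁻¹ = (t * (c * m) * t⁻¹)⁻¹ * (t * (c * (z * m * z⁻¹)) * t⁻¹) := by
      group
    rw [e3, e, e', inv_inv]
    exact mul_mem (mul_mem hc.1 (Subgroup.le_normalizer hm))
      (inv_mem (mul_mem hc.1 (Subgroup.le_normalizer hm')))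
  have : m = 1 := h.eq_one_of_comm_z hm (mul_inv_eq_iff_eq_mul.1 ((inv_mul_eq_one.1 hm1).symm)).symm
  rwa [this, mul_one] at e

theorem exists_t0 : ∃ t : G, t ∉ NN(M) ∧ orderOf t = 2 ∧ t * z = z * t := by
  obtain ⟨g, hg⟩ := h.exists_not_mem
  obtain ⟨x, hx, hgx⟩ := h.exists_invol_coset h.hI hg
  obtain ⟨w, hw, e⟩ := h.exists_center (h.mul_out_ne hg hx) hgx
  have hw' : w ∈ NN(M) := Subgroup.le_normalizer hw
  refine ⟨w⁻¹ * (g * x) * w, fun h1 => h.mul_out_ne hg hx ?_, by rw [orderOf_conj'']; exact hgx, ?_⟩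
  · have := mul_mem (mul_mem hw' h1) (inv_mem hw')
    simpa [mul_assoc] using this
  · calc w⁻¹ * (g * x) * w * z = w⁻¹ * ((g * x) * (w * z * w⁻¹)) * w := by group
      _ = w⁻¹ * ((w * z * w⁻¹) * (g * x)) * w := by rw [e]
      _ = _ := by group

theorem C_comm {a b : G} (ha : a ∈ CC(M, z)) (hb : b ∈ CC(M, z)) : a * b = b * a := by
  obtain ⟨t, ht, ht2, htz⟩ := h.exists_t0
  have h1 := h.inverts_C ht ht2 htz (mul_mem ha hb)
  have h2 : t * (a * b) * t⁻¹ = (t * a * t⁻¹) * (t * b * t⁻¹) := by group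
  rw [h2, h.inverts_C ht ht2 htz ha, h.inverts_C ht ht2 htz hb, mul_inv_rev] at h1
  calc a * b = (b⁻¹ * a⁻¹)⁻¹ := by group
    _ = (a⁻¹ * b⁻¹)⁻¹ := by rw [h1]
    _ = b * a := by group

/-- The complement acts fixed-point-freely on `M`. -/
theorem fpf {c m : G} (hc : c ∈ CC(M, z)) (hm : m ∈ M) (hm1 : m ≠ 1) (hcm : c * m = m * c) : c = 1 := by
  by_contra hc1
  have hcz : c ≠ z := fun e => hm1 (h.eq_one_of_comm_z hm (e ▸ hcm.symm))
  obtain ⟨t, ht, ht2, htz⟩ := h.exists_t0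
  have hg : t * m * t⁻¹ ∉ NN(M) := fun e => hm1 (h.meet_trivial ht ht2 hm e)
  have hgc : (t * m * t⁻¹) * c = c * (t * m * t⁻¹) := by
    have e1 : t * c * t⁻¹ = c⁻¹ := h.inverts_C ht ht2 htz hc
    have e0 : t⁻¹ * c * t = c⁻¹ := by
      have e2 := h.inverts_C ht ht2 htz (inv_mem hc)
      rw [inv_inv] at e2
      calc t⁻¹ * c * t = t⁻¹ * (t * c⁻¹ * t⁻¹) * t := by rw [e2]
        _ = c⁻¹ := by group
    calc (t * m * t⁻¹) * c = t * (m * (t⁻¹ * c * t)) * t⁻¹ := by group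
      _ = t * (c⁻¹ * m) * t⁻¹ := by
          rw [e0, show m * c⁻¹ = c⁻¹ * m from (Commute.inv_left (show Commute c m from hcm)).eq.symm]
      _ = (t * c⁻¹ * t⁻¹) * (t * m * t⁻¹) := by group
      _ = c * (t * m * t⁻¹) := by
          rw [show t * c⁻¹ * t⁻¹ = (t * c * t⁻¹)⁻¹ by group, e1, inv_inv]
  obtain ⟨x, hx, hu⟩ := h.exists_invol_coset h.hI hg
  set g := t * m * t⁻¹ with hgdef
  have hx' : x ∈ NN(M) := Subgroup.le_normalizer hx
  have hcx : x⁻¹ * c * x ∈ NN(M) := mul_mem (mul_mem (inv_mem hx') hc.1) hx'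
  have hui : (g * x)⁻¹ = g * x := inv_eq_of_mul_eq_one_right (invol_iff.1 hu).1
  have e3 : (g * x) * c * (g * x)⁻¹ = x⁻¹ * c * x := by
    calc (g * x) * c * (g * x)⁻¹ = (g * x)⁻¹ * c * (g * x) := by rw [hui]
      _ = x⁻¹ * (g⁻¹ * (c * g)) * x := by group
      _ = x⁻¹ * c * x := by rw [← hgc]; group
  have e4 := h.inverted_of_conj_mem (h.mul_out_ne hg hx) hu hc.1 (e3 ▸ hcx)
  rw [e3] at e4
  have e5 : c * ((c⁻¹ * x⁻¹ * c⁻¹⁻¹) * x) = c⁻¹ * 1 := by
    rw [mul_one]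
    exact Eq.trans (by group) e4
  obtain ⟨e6, -⟩ := h.decomp_unique hc (inv_mem hc)
    (M.mul_mem (conj_mem_of_mem (inv_mem hc.1) (M.inv_mem hx)) hx) M.one_mem e5
  exact (h.cinv_unique hc (eq_inv_iff_mul_eq_one.1 e6)).elim hc1 hcz

/-- Outside the complement the centraliser of `z` consists of involutions. -/
theorem outside_invol {g : G} (hg : g ∈ C(z)) (hgN : g ∉ NN(M)) : orderOf g = 2 := by
  obtain ⟨x, hx, hgx⟩ := h.exists_invol_coset h.hI hgN
  have hgz : g * z = z * g := mem_cent.1 hg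
  have e : g * x⁻¹ = z * (g * x) * z⁻¹ := by
    rw [← h.z_inverts hx]
    calc g * (z * x * z⁻¹) = (g * z) * x * z⁻¹ := by group
      _ = _ := by rw [hgz]; group
  have h2 : orderOf (g * x⁻¹) = 2 := by rw [e, orderOf_conj', hgx]
  have hm : x⁻¹ * x⁻¹ ∈ M := M.mul_mem (M.inv_mem hx) (M.inv_mem hx)
  have h3 := h.unique_in_coset (h.mul_out_ne hgN hx) hgx hm (by
    rw [show g * x * (x⁻¹ * x⁻¹) = g * x⁻¹ by group]; exact (invol_iff.1 h2).1)
  have : x⁻¹ = 1 := h.eq_one_of_sq (M.inv_mem hx) h3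
  rw [inv_eq_one] at this
  rwa [this, mul_one] at hgx

theorem card_out : Nat.card {t : G // t ∉ NN(M) ∧ orderOf t = 2} =
    Nat.card M * Nat.card {g : C(z) // (g : G) ∉ NN(M)} := by
  rw [← Nat.card_prod]
  refine (Nat.card_eq_of_bijective (fun p : M × {g : C(z) // (g : G) ∉ NN(M)} =>
    (⟨(p.1 : G) * ((p.2 : C(z)) : G) * (p.1 : G)⁻¹, fun e => p.2.2 (by
        have := mul_mem (mul_mem (inv_mem (Subgroup.le_normalizer p.1.2)) e)
          (Subgroup.le_normalizer p.1.2 : (p.1 : G) ∈ NN(M))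
        simpa [mul_assoc] using this), by
        rw [orderOf_conj']; exact h.outside_invol p.2.1.2 p.2.2⟩ :
      {t : G // t ∉ NN(M) ∧ orderOf t = 2})) ⟨?_, ?_⟩).symm
  · rintro ⟨⟨w, hw⟩, ⟨⟨g, hg⟩, hgN⟩⟩ ⟨⟨w', hw'⟩, ⟨⟨g', hg'⟩, hgN'⟩⟩ e
    have e1 : w * g * w⁻¹ = w' * g' * w'⁻¹ := congrArg Subtype.val e
    have hd : w'⁻¹ * w ∈ M := M.mul_mem (M.inv_mem hw') hw
    have hg2 := h.outside_invol hg hgN
    -- two involutions of the normaliser commuting with the same outside involution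
    have hgz : g * z = z * g := mem_cent.1 hg
    have hgz' : g' * z = z * g' := mem_cent.1 hg'
    set d := w'⁻¹ * w with hd'
    have eg : g' = d * g * d⁻¹ := by
      rw [hd']
      calc g' = w'⁻¹ * (w' * g' * w'⁻¹) * w' := by group
        _ = _ := by rw [← e1]; group
    have hdz : (d⁻¹ * z * d) * g = g * (d⁻¹ * z * d) := by
      rw [eg] at hgz'
      calc (d⁻¹ * z * d) * g = d⁻¹ * (z * (d * g * d⁻¹)) * d := by group
        _ = d⁻¹ * ((d * g * d⁻¹) * z) * d := by rw [hgz']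
        _ = _ := by group
    have hmem : z⁻¹ * (d⁻¹ * z * d) ∈ M := by
      have e7 : z⁻¹ * (d⁻¹ * z * d) = (z⁻¹ * d⁻¹ * z⁻¹⁻¹) * d := by group
      rw [e7]
      exact M.mul_mem (conj_mem_of_mem (inv_mem h.hzN) (M.inv_mem hd)) hd
    have h4 : z⁻¹ * (d⁻¹ * z * d) = 1 := by
      refine h.meet_trivial hgN hg2 hmem ?_
      have e8 : g * (z⁻¹ * (d⁻¹ * z * d)) * g⁻¹ = z⁻¹ * (d⁻¹ * z * d) := by
        rw [mul_inv_eq_iff_eq_mul]
        calc g * (z⁻¹ * (d⁻¹ * z * d)) = (g * z⁻¹) * (d⁻¹ * z * d) := by group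
          _ = (z⁻¹ * g) * (d⁻¹ * z * d) := by
              rw [show g * z⁻¹ = z⁻¹ * g from (Commute.inv_right (show Commute g z from hgz)).eq]
          _ = z⁻¹ * ((d⁻¹ * z * d) * g) := by rw [hdz]; group
          _ = _ := by group
      rw [e8]
      exact Subgroup.le_normalizer hmem
    have hd1 : d = 1 := by
      refine h.eq_one_of_comm_z hd ?_
      have e9 : z = d⁻¹ * z * d := inv_mul_eq_one.1 h4
      calc d * z = d * (d⁻¹ * z * d) := by rw [← e9]
        _ = z * d := by group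
    have hww : w = w' := (inv_mul_eq_one.1 hd1).symm
    subst hww
    have hgg : g = g' := mul_left_cancel (mul_right_cancel e1)
    subst hgg
    rfl
  · rintro ⟨t, ht, ht2⟩
    obtain ⟨w, hw, e⟩ := h.exists_center ht ht2
    refine ⟨(⟨w, hw⟩, ⟨⟨w⁻¹ * t * w, mem_cent.2 ?_⟩, fun e' => ht ?_⟩), Subtype.ext ?_⟩
    · calc w⁻¹ * t * w * z = w⁻¹ * (t * (w * z * w⁻¹)) * w := by group
        _ = w⁻¹ * ((w * z * w⁻¹) * t) * w := by rw [e]
        _ = _ := by group
    · have := mul_mem (mul_mem (Subgroup.le_normalizer hw : w ∈ NN(M)) e') (inv_mem (Subgroup.le_normalizer hw))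
      simpa [mul_assoc] using this
    · show w * (w⁻¹ * t * w) * w⁻¹ = t
      group

theorem card_cent : Nat.card {g : C(z) // (g : G) ∉ NN(M)} + Nat.card ↥(CC(M, z)) = Nat.card C(z) := by
  classical
  rw [← Nat.card_congr ((Equiv.sumComm _ _).trans (Equiv.sumCompl fun g : C(z) => (g : G) ∈ NN(M))),
    Nat.card_sum]
  congr 1
  exact Nat.card_congr
    { toFun := fun g => ⟨⟨(g : G), g.2.2⟩, g.2.1⟩
      invFun := fun g => ⟨((g : C(z)) : G), g.2, g.1.2⟩
      left_inv := fun _ => rfl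
      right_inv := fun _ => rfl }

/-- The order of the group. -/
theorem card_G : Nat.card G + Nat.card M * Nat.card M * Nat.card ↥(CC(M, z)) =
    Nat.card M * Nat.card M * Nat.card C(z) + Nat.card ↥(CC(M, z)) * Nat.card M := by
  rw [← h.card_out_mul, h.card_out, ← h.card_cent]
  ring

theorem card_invol_eq : Nat.card {g : G // orderOf g = 2} + Nat.card M * Nat.card ↥(CC(M, z)) =
    Nat.card M * (1 + Nat.card C(z)) := by
  rw [h.card_invol, h.card_out, ← h.card_cent]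
  ring

theorem C_lt : Nat.card ↥(CC(M, z)) < Nat.card M := by
  have h1 := h.card_out_mul
  have h2 := M.index_mul_card
  have h3 := h.card_invol
  have h4 := h.hI
  rw [← h2, ← add_mul] at h1
  have h5 := Nat.eq_of_mul_eq_mul_right Nat.card_pos h1
  omega

theorem two_dvd_C : 2 ∣ Nat.card ↥(CC(M, z)) := by
  have h1 : orderOf (⟨z, h.z_mem⟩ : ↥(CC(M, z))) ∣ Nat.card ↥(CC(M, z)) := orderOf_dvd_natCard _
  rwa [Subgroup.orderOf_mk, h.hz] at h1

/-- The conjugates of `z` are among the involutions. -/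
theorem index_cent_le : (C(z) : Subgroup G).index ≤ Nat.card {g : G // orderOf g = 2} := by
  refine Nat.card_le_card_of_injective
    (fun x : G ⧸ (C(z) : Subgroup G) => (⟨x.out * z * x.out⁻¹, by rw [orderOf_conj', h.hz]⟩ :
      {g : G // orderOf g = 2})) fun x y e => ?_
  rw [← x.out_eq, ← y.out_eq, QuotientGroup.eq, mem_cent]
  have e' : x.out * z * x.out⁻¹ = y.out * z * y.out⁻¹ := congrArg Subtype.val e
  calc x.out⁻¹ * y.out * z = x.out⁻¹ * (y.out * z * y.out⁻¹) * y.out := by group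
    _ = x.out⁻¹ * (x.out * z * x.out⁻¹) * y.out := by rw [e']
    _ = _ := by group

/-- Either the complement has index two in the centraliser, or it is `⟨z⟩` and the centraliser has
exponent two. -/
theorem index_two_or : Nat.card C(z) = 2 * Nat.card ↥(CC(M, z)) ∨
    (Nat.card ↥(CC(M, z)) = 2 ∧ ∀ g ∈ C(z), g * g = 1) := by
  by_cases hall : ∀ a b : G, a ∈ C(z) → b ∈ C(z) → a ∉ NN(M) → b ∉ NN(M) → a * b ∈ NN(M)
  · left
    obtain ⟨t, ht, ht2, htz⟩ := h.exists_t0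
    have htC : t ∈ C(z) := mem_cent.2 htz
    have hcard : Nat.card {g : C(z) // (g : G) ∉ NN(M)} = Nat.card ↥(CC(M, z)) := by
      refine (Nat.card_eq_of_bijective (fun c : ↥(CC(M, z)) =>
        (⟨⟨t * c, mul_mem htC c.2.2⟩, fun e => ht (by simpa using mul_mem e (inv_mem c.2.1))⟩ :
          {g : C(z) // (g : G) ∉ NN(M)})) ⟨fun a b e => ?_, fun g => ?_⟩).symm
      · exact Subtype.ext (mul_left_cancel (congrArg (fun x => ((x : {g : C(z) // (g : G) ∉ NN(M)}) : C(z)).1) e))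
      · refine ⟨⟨t * (g.1 : G), hall t _ htC g.1.2 ht g.2, mul_mem htC g.1.2⟩, Subtype.ext (Subtype.ext ?_)⟩
        show t * (t * (g.1 : G)) = g.1
        rw [← mul_assoc, (invol_iff.1 ht2).1, one_mul]
    have := h.card_cent
    omega
  · right
    push Not at hall
    obtain ⟨a, b, ha, hb, haN, hbN, habN⟩ := hall
    have ha2 := h.outside_invol ha haN
    have hb2 := h.outside_invol hb hbN
    have hab2 := h.outside_invol (mul_mem ha hb) habN
    have hexp : ∀ c ∈ CC(M, z), c * c = 1 := by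
      intro c hc
      have e1 := h.inverts_C haN ha2 (mem_cent.1 ha) (inv_mem hc)
      have e2 := h.inverts_C hbN hb2 (mem_cent.1 hb) hc
      have e3 := h.inverts_C habN hab2 (mem_cent.1 (mul_mem ha hb)) hc
      have e4 : a * b * c * (a * b)⁻¹ = a * (b * c * b⁻¹) * a⁻¹ := by group
      rw [e4, e2, e1, inv_inv] at e3
      exact eq_inv_iff_mul_eq_one.1 e3
    constructor
    · have h1 := h.two_dvd_C
      refine le_antisymm ?_ (Nat.le_of_dvd Nat.card_pos h1)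
      have hb' : ∀ c : ↥(CC(M, z)), c = 1 ∨ c = ⟨z, h.z_mem⟩ := fun c =>
        (h.cinv_unique c.2 (hexp c c.2)).imp Subtype.ext Subtype.ext
      rw [← Nat.card_eq_fintype_card (α := Bool) |>.trans Fintype.card_bool]
      exact Nat.card_le_card_of_surjective (fun b : Bool => if b then (⟨z, h.z_mem⟩ : ↥(CC(M, z))) else 1)
        fun c => (hb' c).elim (fun e => ⟨false, by simp [e]⟩) fun e => ⟨true, by simp [e]⟩
    · intro g hg
      by_cases hgN : g ∈ NN(M)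
      · exact hexp g ⟨hgN, hg⟩
      · exact (invol_iff.1 (h.outside_invol hg hgN)).1

end Big

end CfsgLib.TICount
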