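import Cfsg.Agent.Lib.TICount.Big
import Cfsg.Agent.Lib.SEmb.ZassenhausSL2
import Cfsg.Agent.Lib.Gagola.FpfAbelian
import Cfsg.Agent.Lib.Frobenius.Fpf
import Cfsg.Agent.Lib.Invol.BaerSuzuki
import Cfsg.Agent.Lib.Classical.SmallIso.O2
import Cfsg.Prelude.Def_Transfer

/-!
The case where the centraliser of the involution has exponent two: `SL(2, 2^e)` or a regular normal
elementary abelian subgroup.
-/

set_option autoImplicit false
set_option linter.style.haveILetI false
set_option linter.unusedSectionVars false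

open Subgroup

namespace CfsgLib.TICount

universe u

variable {G : Type u} [Group G]

local notation "C(" x ")" => Subgroup.centralizer ({x} : Set _)
local notation "NN(" M ")" => Subgroup.normalizer (SetLike.coe M)
local notation "CC(" M "," z ")" => NN(M) ⊓ C(z)

theorem isCyclic_of_sl_two {F : Type} [Field F] [Fintype F] (h2 : ∀ x : F, x + x = 0) {A : Type u}
    [CommGroup A] [Finite A] (φ : A →* Matrix.SpecialLinearGroup (Fin 2) F) (hφ : Function.Injective φ)
    (_hco : (Nat.card A).Coprime (Fintype.card F - 1)) (hodd : Odd (Nat.card A)) : IsCyclic A := by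
  classical
  let f : A →* AddMonoid.End (Fin 2 → F) :=
    { toFun := fun a => (Matrix.mulVecLin ((φ a : Matrix.SpecialLinearGroup (Fin 2) F) :
        Matrix (Fin 2) (Fin 2) F)).toAddMonoidHom
      map_one' := by ext v : 1; simp; rfl
      map_mul' := fun a b => by ext v : 1; simp [Matrix.mulVec_mulVec]; rfl }
  refine CfsgLib.Gagola.isCyclic_of_fpf_addEnd (Nat.card (Fin 2 → F)) le_rfl f fun a ha v hv => ?_
  by_contra hv0
  set N : Matrix (Fin 2) (Fin 2) F := ((φ a : Matrix.SpecialLinearGroup (Fin 2) F) : Matrix (Fin 2) (Fin 2) F) with hN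
  have hNv : N.mulVec v = v := hv
  have hdet : N.det = 1 := (φ a).2
  rw [Matrix.det_fin_two] at hdet
  have e0 : N 0 0 * v 0 + N 0 1 * v 1 = v 0 := by
    simpa [Matrix.mulVec, dotProduct, Fin.sum_univ_two] using congrFun hNv 0
  have e1 : N 1 0 * v 0 + N 1 1 * v 1 = v 1 := by
    simpa [Matrix.mulVec, dotProduct, Fin.sum_univ_two] using congrFun hNv 1
  have h20 : (2 : F) = 0 := by linear_combination h2 1
  have htr : N 0 0 + N 1 1 = 0 := by
    have k0 : (N 0 0 + N 1 1) * v 0 = 0 := by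
      linear_combination (1 - N 1 1) * e0 + N 0 1 * e1 + v 0 * hdet + v 0 * h20
    have k1 : (N 0 0 + N 1 1) * v 1 = 0 := by
      linear_combination (1 - N 0 0) * e1 + N 1 0 * e0 + v 1 * hdet + v 1 * h20
    by_contra htr
    exact hv0 (funext (Fin.forall_fin_two.2
      ⟨(mul_eq_zero.1 k0).resolve_left htr, (mul_eq_zero.1 k1).resolve_left htr⟩))
  have hsq : φ (a * a) = 1 := by
    apply Subtype.ext
    rw [map_mul, Matrix.SpecialLinearGroup.coe_mul, Matrix.SpecialLinearGroup.coe_one, ← hN]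
    ext i j
    fin_cases i <;> fin_cases j <;> simp [Matrix.mul_apply, Fin.sum_univ_two]
    · linear_combination N 0 0 * htr - hdet - h20
    · linear_combination N 0 1 * htr
    · linear_combination N 1 0 * htr
    · linear_combination N 1 1 * htr - hdet - h20
  have ha2 : orderOf a ∣ 2 := orderOf_dvd_of_pow_eq_one (hφ (by rw [pow_two, hsq, map_one]))
  exact ha (orderOf_eq_one_iff.1
    (Nat.eq_one_of_dvd_coprimes (Nat.coprime_two_left.2 hodd) ha2 (orderOf_dvd_natCard a)))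

namespace Big

variable [Finite G] {M : Subgroup G} {z : G} (h : Big M z)
  (hc2 : Nat.card ↥(CC(M, z)) = 2) (hexp : ∀ g ∈ C(z), g * g = 1)
  (hne : Nat.card C(z) ≠ 4)
include h hc2 hexp hne

theorem exists_param : ∃ a j : ℕ, 1 ≤ a ∧ (j = 1 ∨ j = 2) ∧ Nat.card C(z) = 2 * 2 ^ a ∧
    Nat.card M = j * 2 ^ a + 1 ∧
    (C(z) : Subgroup G).index = Nat.card M * (j * 2 ^ a + 1 - j) ∧
    Nat.card {g : G // orderOf g = 2} + Nat.card M = Nat.card M * (2 * 2 ^ a) ∧
    Nat.card G = 2 * Nat.card M * (2 ^ a * (j * 2 ^ a + 1 - j)) := by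
  haveI : Fact (Nat.Prime 2) := ⟨Nat.prime_two⟩
  have hP : IsPGroup 2 C(z) := fun g => ⟨1, Subtype.ext (by
    rw [pow_one, pow_two]; exact hexp g g.2)⟩
  obtain ⟨n, hn⟩ := hP.exists_card_eq
  have hge : 2 ≤ n := by
    by_contra hlt
    have h1 := h.card_cent
    obtain ⟨t, ht, -, htz⟩ := h.exists_t0
    have h3 : 0 < Nat.card {g : C(z) // (g : G) ∉ NN(M)} :=
      Nat.card_pos_iff.2 ⟨⟨⟨⟨t, mem_cent.2 htz⟩, ht⟩⟩, inferInstance⟩
    rw [hn, hc2] at h1
    interval_cases n <;> omega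
  obtain ⟨a, rfl⟩ : ∃ a, n = a + 1 := ⟨n - 1, by omega⟩
  have hk : Nat.card C(z) = 2 * 2 ^ a := by rw [hn, pow_succ']
  have hG := h.card_G
  have hI := h.card_invol_eq
  rw [hc2, hk] at hG hI
  have hidx := (C(z) : Subgroup G).index_mul_card
  rw [hk] at hidx
  set q := Nat.card M with hq
  set X := (C(z) : Subgroup G).index with hX
  set k := 2 ^ a with hkdef
  have hkpos : 2 ≤ k := by rw [hkdef]; exact Nat.le_self_pow (by omega) 2
  obtain ⟨r, hr⟩ : ∃ r, k = r + 1 := ⟨k - 1, by omega⟩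
  have hG' : Nat.card G = 2 * q * (1 + q * r) := by rw [hr] at hG; linarith [hG]
  have hXk : X * k = q * (1 + q * r) := by
    have e : 2 * (X * k) = 2 * (q * (1 + q * r)) := by rw [hG'] at hidx; linarith [hidx]
    omega
  have hcop : k.Coprime q := by
    rw [hkdef]; exact Nat.Coprime.pow_left a (Nat.coprime_two_left.2 h.odd_card)
  have hdvd : k ∣ 1 + q * r := hcop.dvd_of_dvd_mul_left ⟨X, by rw [← hXk, mul_comm]⟩
  have hq1 : 1 < q := h.card_M_pos
  have hdvd2 : k ∣ q - 1 := by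
    have h1 : k ∣ q * k := dvd_mul_left _ _
    have h2' : q - 1 = q * k - (1 + q * r) := by rw [hr, mul_add, mul_one]; omega
    rw [h2']; exact Nat.dvd_sub h1 hdvd
  obtain ⟨j, hj⟩ := hdvd2
  have hqj : q = j * k + 1 := by rw [mul_comm]; omega
  have hX2 : X = q * (1 + j * r) := by
    refine Nat.eq_of_mul_eq_mul_right (show 0 < k by omega) ?_
    rw [hXk, hr, show q * r = (j * k + 1) * r by rw [← hqj], hr]
    ring
  have hle := h.index_cent_le
  have hI' : Nat.card {g : G // orderOf g = 2} + q = q * (2 * k) := by linarith [hI]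
  have hj2 : j ≤ 2 := by
    by_contra hjj
    have e1 : q * (1 + 3 * r) ≤ q * (1 + j * r) := Nat.mul_le_mul_left _ (by nlinarith [Nat.lt_of_not_le hjj])
    have : (1 + 3 * r) * q + q ≤ 2 * k * q := by
      rw [← hX, hX2] at hle; nlinarith [hle, e1, hI']
    rw [← Nat.succ_mul] at this
    have := Nat.le_of_mul_le_mul_right this (by omega)
    omega
  have hj0 : j ≠ 0 := fun e => by rw [e] at hqj; omega
  have he : j * k + 1 - j = 1 + j * r := by rw [hr, mul_add, mul_one]; omega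
  refine ⟨a, j, by omega, by omega, hk, hqj, by rw [← hkdef, he]; exact hX2, hI', ?_⟩
  rw [← hkdef, he, hG', show q * r = (j * k + 1) * r by rw [← hqj], hr]
  ring

/-- The case `|M| = 2^(a+1) + 1`. -/
theorem sl_two {a : ℕ} (ha : 1 ≤ a) (hk : Nat.card C(z) = 2 * 2 ^ a) (hq : Nat.card M = 2 * 2 ^ a + 1)
    (hX : (C(z) : Subgroup G).index = Nat.card M * (2 * 2 ^ a + 1 - 2))
    (hI : Nat.card {g : G // orderOf g = 2} + Nat.card M = Nat.card M * (2 * 2 ^ a))
    (hG : Nat.card G = 2 * Nat.card M * (2 ^ a * (2 * 2 ^ a + 1 - 2))) :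
    ∃ (F : Type) (_ : Field F) (_ : Fintype F) (e : ℕ), 1 < e ∧ Fintype.card F = 2 ^ e ∧ IsCyclic ↥M ∧
      Nat.card M = 2 ^ e + 1 ∧ Nonempty (G ≃* Matrix.ProjectiveSpecialLinearGroup (Fin 2) F) := by
  classical
  haveI : Fact (Nat.Prime 2) := ⟨Nat.prime_two⟩
  set k := 2 ^ a with hkdef
  have hk2 : 2 ≤ k := by rw [hkdef]; exact Nat.le_self_pow (by omega) 2
  -- every involution is conjugate to `z`
  let f : G ⧸ (C(z) : Subgroup G) → {g : G // orderOf g = 2} :=
    fun x => ⟨x.out * z * x.out⁻¹, by rw [orderOf_conj', h.hz]⟩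
  have hfinj : Function.Injective f := by
    intro x y e
    rw [← x.out_eq, ← y.out_eq, QuotientGroup.eq, mem_cent]
    have e' : x.out * z * x.out⁻¹ = y.out * z * y.out⁻¹ := congrArg Subtype.val e
    calc x.out⁻¹ * y.out * z = x.out⁻¹ * (y.out * z * y.out⁻¹) * y.out := by group
      _ = x.out⁻¹ * (x.out * z * x.out⁻¹) * y.out := by rw [e']
      _ = _ := by group
  have hcard : Nat.card (G ⧸ (C(z) : Subgroup G)) = Nat.card {g : G // orderOf g = 2} := by
    rw [← Subgroup.index_eq_card, hX]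
    have e : Nat.card M * (2 * k) = Nat.card M * (2 * k + 1 - 2) + Nat.card M := by
      rw [show 2 * k = (2 * k + 1 - 2) + 1 by omega, mul_add, mul_one,
        show (2 * k + 1 - 2) + 1 + 1 - 2 = 2 * k + 1 - 2 by omega]
    omega
  have hconj : ∀ u : G, orderOf u = 2 → ∃ g : G, u = g * z * g⁻¹ := fun u hu => by
    obtain ⟨x, hx⟩ := (hfinj.bijective_of_nat_card_le hcard.ge).2 ⟨u, hu⟩
    exact ⟨x.out, (congrArg Subtype.val hx).symm⟩
  have hGodd : Nat.card G = Nat.card C(z) * (Nat.card M * (2 * k + 1 - 2)) := by rw [hG, hk]; ring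
  obtain ⟨T, hT⟩ := (IsPGroup.of_card (p := 2) (G := C(z)) (n := a + 1)
    (by rw [hk, hkdef, pow_succ'])).exists_le_sylow
  have hTeq : (C(z) : Subgroup G) = (T : Subgroup G) := by
    refine Subgroup.eq_of_le_of_card_ge hT ?_
    obtain ⟨n, hn⟩ := T.isPGroup'.exists_card_eq
    have hd := Subgroup.card_subgroup_dvd_card (T : Subgroup G)
    rw [hn, hGodd] at hd
    have hodd : Odd (Nat.card M * (2 * k + 1 - 2)) := h.odd_card.mul ⟨k - 1, by omega⟩
    have h1 := (Nat.Coprime.pow_left n (Nat.coprime_two_left.2 hodd)).dvd_of_dvd_mul_right hd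
    rw [hn]
    exact Nat.le_of_dvd Nat.card_pos h1
  have hTk : Nat.card (T : Subgroup G) = 2 * k := by rw [← hTeq, hk]
  have hE : CfsgLib.SEmb.ElemCent T := by
    refine ⟨fun hcyc => ?_, fun hn => ?_, fun u hu => ?_⟩
    · obtain ⟨g, hg⟩ := IsCyclic.exists_ofOrder_eq_natCard (α := (T : Subgroup G))
      have hgC : (g : G) ∈ C(z) := by rw [hTeq]; exact g.2
      have h1 : orderOf g ∣ 2 := orderOf_dvd_of_pow_eq_one (Subtype.ext (by
        rw [pow_two]; exact hexp g hgC))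
      rw [hg, hTk] at h1
      have := Nat.le_of_dvd two_pos h1
      omega
    · have hle : Nat.card {g : G // orderOf g = 2} ≤ Nat.card (T : Subgroup G) := by
        refine Nat.card_le_card_of_injective (fun u => (⟨u.1, ?_⟩ : (T : Subgroup G))) fun u v e =>
          Subtype.ext (congrArg (fun x : (T : Subgroup G) => (x : G)) e)
        obtain ⟨g, hg⟩ := hconj u u.2
        rw [hg]
        exact hn.conj_mem z (hT (mem_cent.2 rfl)) g
      rw [hTk] at hle
      rw [hq] at hI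
      nlinarith [hI, hle]
    · obtain ⟨g, rfl⟩ := hconj u hu
      have hmem : ∀ c ∈ C(g * z * g⁻¹), g⁻¹ * c * g ∈ C(z) := by
        intro c hc
        rw [mem_cent] at hc ⊢
        calc g⁻¹ * c * g * z = g⁻¹ * (c * (g * z * g⁻¹)) * g := by group
          _ = g⁻¹ * ((g * z * g⁻¹) * c) * g := by rw [hc]
          _ = _ := by group
      have hsq : ∀ c ∈ C(g * z * g⁻¹), c * c = 1 := fun c hc => by
        have := hexp _ (hmem c hc)
        calc c * c = g * ((g⁻¹ * c * g) * (g⁻¹ * c * g)) * g⁻¹ := by group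
          _ = 1 := by rw [this]; group
      refine ⟨⟨⟨fun x y => Subtype.ext ?_⟩⟩, fun c hc => by rw [pow_two]; exact hsq c hc⟩
      show (x : G) * y = y * x
      have := hsq _ (mul_mem x.2 y.2)
      calc (x : G) * y = ((x : G) * y)⁻¹ := (inv_eq_of_mul_eq_one_right this).symm
        _ = (y : G)⁻¹ * (x : G)⁻¹ := mul_inv_rev _ _
        _ = y * x := by
            rw [inv_eq_of_mul_eq_one_right (hsq x x.2), inv_eq_of_mul_eq_one_right (hsq y y.2)]
  obtain ⟨F, iF, iFF, hF, h2F, ⟨e⟩⟩ := hE.nonempty_equiv_SL2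
  have hFk : Fintype.card F = 2 ^ (a + 1) := by
    rw [hF, show Nat.card T = 2 * k from hTk, hkdef, pow_succ']
  refine ⟨F, iF, iFF, a + 1, by omega, hFk, ?_, by rw [hq, hkdef, pow_succ'], ⟨e.trans ?_⟩⟩
  · letI : CommGroup M :=
      { (inferInstance : Group M) with mul_comm := fun x y => Subtype.ext (h.M_comm x.2 y.2) }
    refine isCyclic_of_sl_two h2F (e.toMonoidHom.comp M.subtype) (e.injective.comp M.subtype_injective)
      ?_ h.odd_card
    have e3 : Nat.card M = Fintype.card F - 1 + 2 := by rw [hFk, pow_succ', hq, hkdef]; omega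
    rw [e3, Nat.coprime_self_add_left, Nat.coprime_two_left]
    rw [hFk, pow_succ', ← hkdef]
    exact ⟨k - 1, by omega⟩
  · exact (QuotientGroup.quotientBot).symm.trans
      (QuotientGroup.quotientMulEquivOfEq (CfsgLib.SEmb.ProjLine.center_eq_bot h2F).symm)

/-- The case `|M| = 2^a + 1`. -/
theorem regular_normal {a : ℕ} (ha : 1 ≤ a) (hk : Nat.card C(z) = 2 * 2 ^ a) (hq : Nat.card M = 2 ^ a + 1)
    (hX : (C(z) : Subgroup G).index = Nat.card M * (2 ^ a + 1 - 1))
    (hI : Nat.card {g : G // orderOf g = 2} + Nat.card M = Nat.card M * (2 * 2 ^ a))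
    (hG : Nat.card G = 2 * Nat.card M * (2 ^ a * (2 ^ a + 1 - 1))) :
    ∃ (d : ℕ) (E : Subgroup G), 1 ≤ d ∧ E.Normal ∧ Cfsg.IsElementaryAbelian 2 E ∧ Nat.card E = 2 ^ (2 * d) ∧
      E ⊓ NN(M) = ⊥ ∧ E ⊔ NN(M) = ⊤ ∧ Nonempty (↥(NN(M)) ≃* DihedralGroup (2 ^ d + 1)) := by
  classical
  haveI : Fact (Nat.Prime 2) := ⟨Nat.prime_two⟩
  rw [Nat.add_sub_cancel] at hX hG
  set k := 2 ^ a with hkdef
  have hk2 : 2 ≤ k := by rw [hkdef]; exact Nat.le_self_pow (by omega) 2
  have hNcard : Nat.card ↥(NN(M)) = 2 * Nat.card M := by rw [h.card_N, hc2]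
  obtain ⟨P⟩ : Nonempty (Sylow 2 G) := inferInstance
  set E := (P : Subgroup G).normalCore with hEdef
  have hEn : E.Normal := Subgroup.normalCore_normal _
  have hEp : IsPGroup 2 E := P.isPGroup'.to_le (Subgroup.normalCore_le _)
  -- involutions not conjugate to `z` lie in `E`
  have hT : ∀ u : G, orderOf u = 2 → (∀ g : G, u ≠ g * z * g⁻¹) → u ∈ E := by
    intro u hu hnc
    have hui : u⁻¹ = u := inv_eq_of_mul_eq_one_right (invol_iff.1 hu).1
    have huu := (invol_iff.1 hu).1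
    suffices hp : ∀ g : G, IsPGroup 2 (Subgroup.closure ({u, g * u * g⁻¹} : Set G)) by
      obtain ⟨N, hN, hNp, huN⟩ := CfsgLib.Invol.exists_normal_pGroup_of_pairs (p := 2) u hp
      haveI := hN
      exact Subgroup.normal_le_normalCore.2 (hNp.le_sylow_of_normal P) huN
    intro g
    set v := g * u * g⁻¹ with hv
    have hvv : v * v = 1 := by
      rw [hv]; calc g * u * g⁻¹ * (g * u * g⁻¹) = g * (u * u) * g⁻¹ := by group
        _ = 1 := by rw [huu]; group
    -- an element of odd prime order inverted by `u`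
    have hno : ∀ x : G, ∀ r : ℕ, r.Prime → r ≠ 2 → orderOf x = r → u * x * u⁻¹ ≠ x⁻¹ := by
      intro x r hr hr2 hx hinv
      haveI := Fact.mk hr
      have hrG : r ∣ Nat.card G := hx ▸ orderOf_dvd_natCard x
      have hrk : ¬ r ∣ 2 * (k * k) := fun hd => hr2 ((Nat.prime_dvd_prime_iff_eq hr Nat.prime_two).1
        (hr.dvd_of_dvd_pow (show r ∣ 2 ^ (2 * a + 1) by
          rw [pow_succ', two_mul a, pow_add, ← hkdef]; exact hd)))
      obtain ⟨R0⟩ : Nonempty (Sylow r M) := inferInstance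
      have hR0 : Nat.card ((R0 : Subgroup M).map M.subtype) = r ^ (Nat.card G).factorization r := by
        rw [Subgroup.card_map_of_injective M.subtype_injective, R0.card_eq_multiplicity]
        congr 1
        rw [hG, show 2 * Nat.card M * (k * k) = (2 * (k * k)) * Nat.card M by ring,
          Nat.factorization_mul (by positivity) Nat.card_pos.ne', Finsupp.add_apply,
          Nat.factorization_eq_zero_of_not_dvd hrk, zero_add]
      let R : Sylow r G := Sylow.ofCard _ hR0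
      obtain ⟨Q, hQ⟩ := (IsPGroup.of_card (p := r) (G := Subgroup.zpowers x) (n := 1)
        (by rw [Nat.card_zpowers, hx, pow_one])).exists_le_sylow
      obtain ⟨c, hcR⟩ := MulAction.exists_smul_eq G Q R
      have hxM : c * x * c⁻¹ ∈ M := by
        have h1 : c * x * c⁻¹ ∈ ((c • Q : Sylow r G) : Subgroup G) :=
          ⟨x, hQ (Subgroup.mem_zpowers x), rfl⟩
        rw [hcR, Sylow.coe_ofCard] at h1
        obtain ⟨y, -, hy⟩ := h1
        exact hy ▸ y.2
      have hx1 : c * x * c⁻¹ ≠ 1 := by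
        rw [Ne, conj_eq_one_iff]; intro e; rw [e, orderOf_one] at hx; exact hr.one_lt.ne hx
      have hN : c * u * c⁻¹ ∈ NN(M) := h.mem_N_of_conj hxM hx1 (by
        rw [show (c * u * c⁻¹) * (c * x * c⁻¹) * (c * u * c⁻¹)⁻¹ = (c * x * c⁻¹)⁻¹ by
          rw [show (c * x * c⁻¹)⁻¹ = c * x⁻¹ * c⁻¹ by group, ← hinv]; group]
        exact M.inv_mem hxM)
      obtain ⟨w, -, hw⟩ := h.exists_conj_z hN (by rw [orderOf_conj', hu])
      refine hnc (c⁻¹ * w) ?_
      calc u = c⁻¹ * (c * u * c⁻¹) * c := by group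
        _ = _ := by rw [hw]; group
    -- the product has two-power order
    have hord : ∃ n : ℕ, orderOf (u * v) = 2 ^ n := by
      by_contra hcon
      push Not at hcon
      obtain ⟨r, hr, hrd, hr2⟩ : ∃ r, r.Prime ∧ r ∣ orderOf (u * v) ∧ r ≠ 2 := by
        by_contra hall
        push Not at hall
        exact hcon _ (Nat.eq_prime_pow_of_unique_prime_dvd (orderOf_pos _).ne' fun hp hd => hall _ hp hd)
      obtain ⟨l, hl⟩ := hrd
      have hl0 : l ≠ 0 := fun e => by rw [e, mul_zero] at hl; exact (orderOf_pos _).ne' hl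
      refine hno ((u * v) ^ l) r hr hr2 ?_ ?_
      · rw [orderOf_pow_of_dvd hl0 ⟨r, by rw [hl, mul_comm]⟩, hl,
          Nat.mul_div_cancel _ (Nat.pos_of_ne_zero hl0)]
      · rw [← conj_pow, ← inv_pow]
        congr 1
        rw [mul_inv_rev, hui, inv_eq_of_mul_eq_one_right hvv]
        calc u * (u * v) * u = (u * u) * v * u := by group
          _ = v * u := by rw [huu, one_mul]
    obtain ⟨n, hn⟩ := hord
    exact CfsgLib.Invol.isPGroup_two_closure_pair hu (by rw [hv, orderOf_conj', hu]) hn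
  -- `E` meets the normaliser trivially
  have hEN : E ⊓ NN(M) = ⊥ := by
    rw [Subgroup.eq_bot_iff_forall]
    rintro x ⟨hxE, hxN⟩
    obtain ⟨m, hm, hm1⟩ : ∃ m ∈ M, m ≠ 1 := by
      by_contra hb; push Not at hb
      exact h.ne ((Subgroup.eq_bot_iff_forall _).2 hb)
    obtain ⟨n, hn⟩ := hEp.exists_card_eq
    have hcop : Nat.Coprime (Nat.card M) (Nat.card E) := by
      rw [hn]; exact (Nat.Coprime.pow_left n (Nat.coprime_two_left.2 h.odd_card)).symm
    have e : x * m * x⁻¹ * m⁻¹ ∈ E ⊓ M := by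
      refine ⟨?_, M.mul_mem (conj_mem_of_mem hxN hm) (M.inv_mem hm)⟩
      rw [show x * m * x⁻¹ * m⁻¹ = x * (m * x⁻¹ * m⁻¹) by group]
      exact E.mul_mem hxE (hEn.conj_mem _ (E.inv_mem hxE) m)
    rw [disjoint_iff.1 (Subgroup.disjoint_of_coprime_natCard hcop.symm : Disjoint E M), Subgroup.mem_bot] at e
    by_contra hx1
    have hxm : x * m = m * x := mul_inv_eq_iff_eq_mul.1 (mul_inv_eq_one.1 e)
    obtain ⟨i, hi⟩ := hEp ⟨x, hxE⟩
    have h1 : orderOf x ∣ Nat.card C(m) := by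
      have := orderOf_dvd_natCard (⟨x, mem_cent.2 hxm⟩ : C(m))
      rwa [Subgroup.orderOf_mk] at this
    have h3 : orderOf x ∣ 2 ^ i := orderOf_dvd_of_pow_eq_one (congrArg Subtype.val hi)
    exact hx1 (orderOf_eq_one_iff.1
      (Nat.eq_one_of_dvd_coprimes (Nat.Coprime.pow_left i (Nat.coprime_two_left.2 (h.odd m hm hm1))) h3 h1))
  have hle : Nat.card E ≤ k * k := by
    have h1 : Nat.card (↥E × ↥(NN(M))) ≤ Nat.card G := by
      refine Nat.card_le_card_of_injective (fun p : ↥E × ↥(NN(M)) => (p.1 : G) * p.2) fun p p' e => ?_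
      simp only at e
      have h3 : (p'.1 : G)⁻¹ * p.1 ∈ E ⊓ NN(M) := ⟨E.mul_mem (E.inv_mem p'.1.2) p.1.2, by
        rw [show (p'.1 : G)⁻¹ * p.1 = (p'.1 : G)⁻¹ * (p.1 * p.2) * (p.2 : G)⁻¹ by group, e,
          show (p'.1 : G)⁻¹ * (p'.1 * p'.2) * (p.2 : G)⁻¹ = p'.2 * (p.2 : G)⁻¹ by group]
        show (p'.2 : G) * (p.2 : G)⁻¹ ∈ NN(M)
        exact mul_mem p'.2.2 (inv_mem p.2.2)⟩
      rw [hEN, Subgroup.mem_bot] at h3
      have h4 : p'.1 = p.1 := Subtype.ext (inv_mul_eq_one.1 h3)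
      rw [h4] at e
      exact Prod.ext h4.symm (Subtype.ext (mul_left_cancel e))
    rw [Nat.card_prod, hNcard, hG] at h1
    nlinarith [h.card_M_pos]
  -- `E` consists of the identity and these involutions
  let f : G ⧸ (C(z) : Subgroup G) → {g : G // orderOf g = 2} :=
    fun x => ⟨x.out * z * x.out⁻¹, by rw [orderOf_conj', h.hz]⟩
  let T := {u : {g : G // orderOf g = 2} // u ∉ Set.range f}
  have hTE : ∀ u : T, (u.1 : G) ∈ E := fun u => hT _ u.1.2 fun g e => u.2 ⟨QuotientGroup.mk g, Subtype.ext (by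
    obtain ⟨c, hc⟩ := QuotientGroup.mk_out_eq_mul (C(z) : Subgroup G) g
    show (Quotient.out (QuotientGroup.mk g : G ⧸ (C(z) : Subgroup G))) * z * _⁻¹ = _
    rw [hc, e]
    calc g * (c : G) * z * (g * (c : G))⁻¹ = g * ((c : G) * z) * (c : G)⁻¹ * g⁻¹ := by group
      _ = g * (z * (c : G)) * (c : G)⁻¹ * g⁻¹ := by rw [mem_cent.1 c.2]
      _ = _ := by group)⟩
  let ψ : Option T → E := fun o => o.elim 1 fun u => ⟨(u.1 : G), hTE u⟩
  have hψ : Function.Injective ψ := by
    rintro (_ | u) (_ | v) e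
    · rfl
    · exact absurd (congrArg Subtype.val e).symm (invol_iff.1 v.1.2).2
    · exact absurd (congrArg Subtype.val e) (invol_iff.1 u.1.2).2
    · exact congrArg some (Subtype.ext (Subtype.ext (congrArg (fun x : E => (x : G)) e)))
  have hTcard : Nat.card T + Nat.card (G ⧸ (C(z) : Subgroup G)) ≥ Nat.card {g : G // orderOf g = 2} := by
    rw [← Nat.card_sum]
    refine Nat.card_le_card_of_surjective (Sum.elim (fun u : T => u.1) f) fun u => ?_
    by_cases hu : u ∈ Set.range f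
    · obtain ⟨x, hx⟩ := hu; exact ⟨Sum.inr x, hx⟩
    · exact ⟨Sum.inl ⟨u, hu⟩, rfl⟩
  rw [← Subgroup.index_eq_card, hX] at hTcard
  have hEcard : Nat.card E = k * k ∧ Nat.card E ≤ Nat.card (Option T) := by
    have h1 := Nat.card_le_card_of_injective ψ hψ
    rw [Finite.card_option] at h1 ⊢
    rw [hq] at hTcard hI
    constructor <;> nlinarith
  have hsurj : Function.Surjective ψ := (hψ.bijective_of_nat_card_le hEcard.2).2
  have hEexp : ∀ x ∈ E, x * x = 1 := by
    intro x hx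
    obtain ⟨o, ho⟩ := hsurj ⟨x, hx⟩
    rcases o with _ | u
    · rw [← show (1 : G) = x from congrArg Subtype.val ho, one_mul]
    · rw [← show (u.1 : G) = x from congrArg Subtype.val ho]; exact (invol_iff.1 u.1.2).1
  have hEc : ∀ x ∈ E, ∀ y ∈ E, x * y = y * x := fun x hx y hy => by
    calc x * y = (x * y)⁻¹ := (inv_eq_of_mul_eq_one_right (hEexp _ (E.mul_mem hx hy))).symm
      _ = y⁻¹ * x⁻¹ := mul_inv_rev x y
      _ = y * x := by rw [inv_eq_of_mul_eq_one_right (hEexp x hx), inv_eq_of_mul_eq_one_right (hEexp y hy)]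
  haveI hEmc : IsMulCommutative E := ⟨⟨fun x y => Subtype.ext (hEc x x.2 y y.2)⟩⟩
  have hsup : E ⊔ NN(M) = ⊤ := by
    refine Subgroup.eq_top_of_le_card _ ?_
    have h1 : Nat.card (↥E × ↥(NN(M))) ≤ Nat.card ↥(E ⊔ NN(M)) := by
      refine Nat.card_le_card_of_injective (fun p : ↥E × ↥(NN(M)) =>
        (⟨(p.1 : G) * p.2, mul_mem (Subgroup.mem_sup_left p.1.2) (Subgroup.mem_sup_right p.2.2)⟩ :
          ↥(E ⊔ NN(M)))) fun p p' e => ?_
      have e' : (p.1 : G) * p.2 = p'.1 * p'.2 := congrArg Subtype.val e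
      have h3 : (p'.1 : G)⁻¹ * p.1 ∈ E ⊓ NN(M) := ⟨E.mul_mem (E.inv_mem p'.1.2) p.1.2, by
        rw [show (p'.1 : G)⁻¹ * p.1 = (p'.1 : G)⁻¹ * (p.1 * p.2) * (p.2 : G)⁻¹ by group, e',
          show (p'.1 : G)⁻¹ * (p'.1 * p'.2) * (p.2 : G)⁻¹ = p'.2 * (p.2 : G)⁻¹ by group]
        show (p'.2 : G) * (p.2 : G)⁻¹ ∈ NN(M)
        exact mul_mem p'.2.2 (inv_mem p.2.2)⟩
      rw [hEN, Subgroup.mem_bot] at h3
      have h4 : p'.1 = p.1 := Subtype.ext (inv_mul_eq_one.1 h3)
      rw [h4] at e'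
      exact Prod.ext h4.symm (Subtype.ext (mul_left_cancel e'))
    rw [Nat.card_prod, hNcard, hEcard.1] at h1
    rw [hG]
    linarith [h1]
  have hcyc : IsCyclic M := by
    haveI : IsMulCommutative M := ⟨⟨fun x y => Subtype.ext (h.M_comm x.2 y.2)⟩⟩
    refine CfsgLib.Frobenius.isCyclic_of_commutative_fpf (V := E) ?_ ?_ ?_
    · intro e
      have := hEcard.1
      rw [e, Subgroup.card_bot] at this
      nlinarith
    · rw [Subgroup.normalizer_eq_top]; exact le_top
    · intro m hm hm1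
      rw [Subgroup.eq_bot_iff_forall]
      rintro x ⟨hxE, hxC⟩
      by_contra hx1
      exact h.not_comm_invol hm hm1 (invol_iff.2 ⟨hEexp x hxE, hx1⟩) (mem_cent.1 hxC)
  obtain ⟨g, hg⟩ := IsCyclic.exists_ofOrder_eq_natCard (α := M)
  refine ⟨a, E, ha, hEn, ⟨hEmc, fun x hx => by rw [pow_two]; exact hEexp x hx⟩, ?_, hEN, hsup, ?_⟩
  · rw [hEcard.1, hkdef, ← pow_add, two_mul]
  · rw [hkdef] at hq
    rw [← hq]
    refine CfsgLib.Classical.SmallIso.nonempty_dihedral_of_card Nat.card_pos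
      (a := (⟨(g : G), Subgroup.le_normalizer g.2⟩ : ↥(NN(M)))) (b := (⟨z, h.hzN⟩ : ↥(NN(M)))) ?_ ?_ ?_ ?_ hNcard
    · rw [Subgroup.orderOf_mk, ← hg, Subgroup.orderOf_coe]
    · exact Subtype.ext h.zz
    · exact Subtype.ext (h.z_inverts g.2)
    · intro hz
      obtain ⟨i, hi⟩ := hz
      have h1 : (g : G) ^ i = z := by simpa using congrArg Subtype.val hi
      exact h.z_ne (h.eq_one_of_sq (h1 ▸ M.zpow_mem g.2 i) h.zz)

end Big

end CfsgLib.TICount
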