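import Cfsg.Agent.Lib.TICount.TwoMain
import Cfsg.Agent.Lib.TICount.Elem

/-!
The classification of groups with a trivial-intersection subgroup and many involutions.
-/

set_option autoImplicit false
set_option linter.style.haveILetI false

open Subgroup

namespace CfsgLib.TICount

universe u

variable {G : Type u} [Group G]

theorem Big.conclusion [Finite G] {M : Subgroup G} {z : G} (h : Big M z) :
    (∃ (F : Type) (_ : Field F) (_ : Fintype F) (p : ℕ) (_ : Fact p.Prime) (_ : CharP F p),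
      Fintype.card F = Nat.card M ∧ Cfsg.IsElementaryAbelian p M ∧
        (Nonempty (G ≃* (GL (Fin 2) F ⧸ Subgroup.center (GL (Fin 2) F))) ∨
         (Fintype.card F % 4 = 1 ∧ Nonempty (G ≃* Matrix.ProjectiveSpecialLinearGroup (Fin 2) F)))) ∨
    (∃ (F : Type) (_ : Field F) (_ : Fintype F) (e : ℕ), 1 < e ∧ Fintype.card F = 2 ^ e ∧ IsCyclic ↥M ∧
        Nat.card M = 2 ^ e + 1 ∧
        Nonempty (G ≃* Matrix.ProjectiveSpecialLinearGroup (Fin 2) F)) ∨
    (∃ (d : ℕ) (E : Subgroup G), 1 ≤ d ∧ E.Normal ∧ Cfsg.IsElementaryAbelian 2 E ∧ Nat.card E = 2 ^ (2 * d) ∧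
        E ⊓ Subgroup.normalizer (M : Set G) = ⊥ ∧ E ⊔ Subgroup.normalizer (M : Set G) = ⊤ ∧
        Nonempty (↥(Subgroup.normalizer (M : Set G)) ≃* DihedralGroup (2 ^ d + 1))) := by
  obtain ⟨t, ht, ht2, htz⟩ := h.exists_t0
  by_cases hH : Nat.card ↥(Subgroup.centralizer ({z} : Set G)) =
      2 * Nat.card ↥(Subgroup.normalizer (M : Set G) ⊓ Subgroup.centralizer ({z} : Set G))
  · exact Or.inl (h.two_conclusion hH ht ht2 htz)
  · obtain ⟨hc2, hexp⟩ := h.index_two_or.resolve_left hH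
    have hne : Nat.card ↥(Subgroup.centralizer ({z} : Set G)) ≠ 4 := fun e => hH (by rw [e, hc2])
    obtain ⟨a, j, ha, hj, hk, hq, hX, hI, hG⟩ := h.exists_param hc2 hexp hne
    rcases hj with rfl | rfl
    · rw [one_mul] at hq hX hG
      exact Or.inr (Or.inr (h.regular_normal hc2 hexp hne ha hk hq hX hI hG))
    · exact Or.inr (Or.inl (h.sl_two hc2 hexp hne ha hk hq hX hI hG))

end CfsgLib.TICount
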