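import Cfsg.Agent.Lib.TICount.Big
import Cfsg.Agent.Lib.ZassAbelian.Main
import Cfsg.Agent.Lib.SharpThree.Coord
import Cfsg.Agent.Lib.Linear.Card
import Cfsg.Agent.S0738
import Cfsg.Prelude.Def_Transfer
import Mathlib.FieldTheory.Finite.Basic

/-!
The case where the complement has index two in the centraliser of the involution: a doubly transitive group
on `|M| + 1` points.
-/

set_option autoImplicit false
set_option linter.style.haveILetI false
set_option linter.unusedSectionVars false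

open Subgroup MulAction

namespace CfsgLib.TICount

universe u

variable {G : Type u} [Group G]

local notation "C(" x ")" => Subgroup.centralizer ({x} : Set _)
local notation "NN(" M ")" => Subgroup.normalizer (SetLike.coe M)
local notation "CC(" M "," z ")" => NN(M) ⊓ C(z)

theorem stab_mk (K : Subgroup G) (g x : G) :
    g • (QuotientGroup.mk x : G ⧸ K) = QuotientGroup.mk x ↔ x⁻¹ * g * x ∈ K := by
  rw [MulAction.Quotient.smul_mk, smul_eq_mul, eq_comm, QuotientGroup.eq]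
  group

theorem q_eq_of_card {a b : ℕ} (ha : 1 ≤ a) (hb : 1 ≤ b) (h : a * (a ^ 2 - 1) = b * (b ^ 2 - 1)) : a = b := by
  zify [Nat.one_le_pow _ _ ha, Nat.one_le_pow _ _ hb] at h
  rcases lt_trichotomy a b with hlt | rfl | hlt
  · exfalso
    have : (a : ℤ) < b := by exact_mod_cast hlt
    have h1 : (1 : ℤ) ≤ a := by exact_mod_cast ha
    nlinarith [mul_pos (sub_pos.2 this) (by nlinarith : (0 : ℤ) < b ^ 2 + b * a + a ^ 2 - 1)]
  · rfl
  · exfalso
    have : (b : ℤ) < a := by exact_mod_cast hlt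
    have h1 : (1 : ℤ) ≤ b := by exact_mod_cast hb
    nlinarith [mul_pos (sub_pos.2 this) (by nlinarith : (0 : ℤ) < b ^ 2 + b * a + a ^ 2 - 1)]

namespace Big

variable [Finite G] {M : Subgroup G} {z : G} (h : Big M z)
  (h2 : Nat.card C(z) = 2 * Nat.card ↥(CC(M, z)))
include h h2

theorem card_G_two : Nat.card G = Nat.card ↥(CC(M, z)) * Nat.card M * (Nat.card M + 1) := by
  have := h.card_G
  rw [h2] at this
  linarith [this]

theorem card_points : Nat.card (G ⧸ NN(M)) = Nat.card M + 1 := by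
  have h1 := (NN(M) : Subgroup G).index_mul_card
  rw [h.card_G_two h2, h.card_N, Subgroup.index_eq_card, mul_comm] at h1
  exact Nat.eq_of_mul_eq_mul_left (Nat.mul_pos Nat.card_pos Nat.card_pos) h1

variable {t : G} (ht : t ∉ NN(M)) (ht2 : orderOf t = 2) (htz : t * z = z * t)
include ht ht2 htz

local notation "pt" => (QuotientGroup.mk (1 : G) : G ⧸ NN(M))
local notation "qt" => (QuotientGroup.mk t : G ⧸ NN(M))

theorem stab_pt {g : G} : g • pt = pt ↔ g ∈ NN(M) := by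
  rw [stab_mk]; simp

theorem pt_ne : qt ≠ pt := fun e => ht (by simpa using QuotientGroup.eq.1 e.symm)

theorem t_pt : t • pt = qt := by
  rw [MulAction.Quotient.smul_mk, smul_eq_mul, mul_one]

theorem pair {g : G} : (g • pt = pt ∧ g • qt = qt) ↔ g ∈ CC(M, z) := by
  have hti : t⁻¹ = t := inv_eq_of_mul_eq_one_right (invol_iff.1 ht2).1
  rw [h.stab_pt h2 ht ht2 htz, stab_mk]
  constructor
  · rintro ⟨hg, hg'⟩
    have e1 : t * g * t⁻¹ ∈ NN(M) := by rw [hti] at hg' ⊢; exact hg'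
    have e2 := h.inverted_of_conj_mem ht ht2 hg e1
    obtain ⟨c, hc, m, hm, rfl⟩ := h.exists_decomp hg
    have e3 : t * m * t⁻¹ = (t * c * t⁻¹)⁻¹ * (t * (c * m) * t⁻¹) := by group
    have hm1 : m = 1 := h.meet_trivial ht ht2 hm (by
      rw [e3, e2, h.inverts_C ht ht2 htz hc, inv_inv]
      exact mul_mem hc.1 (inv_mem (mul_mem hc.1 (Subgroup.le_normalizer hm))))
    rw [hm1, mul_one]; exact hc
  · intro hc
    refine ⟨hc.1, ?_⟩
    have e := h.inverts_C ht ht2 htz hc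
    rw [hti] at e ⊢
    rw [e]
    exact inv_mem hc.1

theorem regular_M : Function.Bijective
    (fun m : M => (⟨(m : G) • qt, fun e => h.pt_ne h2 ht ht2 htz (MulAction.injective (m : G)
      (e.trans ((h.stab_pt h2 ht ht2 htz).2 (Subgroup.le_normalizer m.2)).symm))⟩ :
      {y : G ⧸ NN(M) // y ≠ pt})) := by
  classical
  haveI := Fintype.ofFinite (G ⧸ NN(M))
  rw [Nat.bijective_iff_injective_and_card]
  refine ⟨fun m m' e => ?_, ?_⟩
  · have e1 : ((m' : G)⁻¹ * m) • qt = qt := by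
      rw [mul_smul, inv_smul_eq_iff]; exact congrArg Subtype.val e
    have hd : (m' : G)⁻¹ * m ∈ M := M.mul_mem (M.inv_mem m'.2) m.2
    have e2 := (h.pair h2 ht ht2 htz).1 ⟨(h.stab_pt h2 ht ht2 htz).2 (Subgroup.le_normalizer hd), e1⟩
    exact Subtype.ext (inv_mul_eq_one.1 (h.eq_one_of_mem hd e2)).symm
  · rw [Nat.card_eq_fintype_card (α := {y : G ⧸ NN(M) // y ≠ pt}), Fintype.card_subtype_compl,
      Fintype.card_subtype_eq, ← Nat.card_eq_fintype_card, h.card_points h2]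
    omega

theorem exists_pair_map {a b : G ⧸ NN(M)} (hab : a ≠ b) : ∃ g : G, g • pt = a ∧ g • qt = b := by
  obtain ⟨k, hk⟩ := MulAction.exists_smul_eq G pt a
  have hne : k⁻¹ • b ≠ pt := fun e => hab (by rw [← hk, ← e, smul_inv_smul])
  obtain ⟨m, hm⟩ := (h.regular_M h2 ht ht2 htz).2 ⟨k⁻¹ • b, hne⟩
  refine ⟨k * m, ?_, ?_⟩
  · rw [mul_smul, (h.stab_pt h2 ht ht2 htz).2 (Subgroup.le_normalizer m.2), hk]
  · rw [mul_smul, show (m : G) • qt = k⁻¹ • b from congrArg Subtype.val hm, smul_inv_smul]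

theorem three_base {g : G} {y : G ⧸ NN(M)} (hg : g • pt = pt) (hg' : g • qt = qt) (hy : g • y = y)
    (h1 : y ≠ pt) (h3 : y ≠ qt) : g = 1 := by
  obtain ⟨⟨m, hm⟩, hmy⟩ := (h.regular_M h2 ht ht2 htz).2 ⟨y, h1⟩
  have hmy' : m • qt = y := congrArg Subtype.val hmy
  have hgC := (h.pair h2 ht ht2 htz).1 ⟨hg, hg'⟩
  have hmN : m ∈ NN(M) := Subgroup.le_normalizer hm
  have hc' : m⁻¹ * g * m ∈ CC(M, z) := (h.pair h2 ht ht2 htz).1
    ⟨(h.stab_pt h2 ht ht2 htz).2 (mul_mem (mul_mem (inv_mem hmN) hgC.1) hmN),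
      by rw [mul_smul, mul_smul, hmy', hy, ← hmy', inv_smul_smul]⟩
  have e : (m⁻¹ * g * m) * 1 = g * ((g⁻¹ * m⁻¹ * g⁻¹⁻¹) * m) := by group
  obtain ⟨-, e2⟩ := h.decomp_unique hc' hgC M.one_mem
    (M.mul_mem (conj_mem_of_mem (inv_mem hgC.1) (M.inv_mem hm)) hm) e
  refine h.fpf hgC hm (fun e0 => h3 (by rw [← hmy', e0, one_smul])) ?_
  calc g * m = g * m * 1 := by group
    _ = g * m * (g⁻¹ * m⁻¹ * g⁻¹⁻¹ * m) := by rw [← e2]
    _ = g * ((m * (g⁻¹ * m⁻¹ * g)) * m) := by group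
    _ = g * (((g⁻¹ * m⁻¹ * g) * m) * m) := by
        rw [h.M_comm hm (show g⁻¹ * m⁻¹ * g ∈ M by
          have := conj_mem_of_mem (inv_mem hgC.1) (M.inv_mem hm); rwa [inv_inv] at this)]
    _ = g * ((g⁻¹ * m⁻¹ * g⁻¹⁻¹ * m) * m) := by group
    _ = m * g := by
        rw [← e2, one_mul]
        calc g * m = m * g * (g⁻¹ * m⁻¹ * g⁻¹⁻¹ * m) := by group
          _ = m * g := by rw [← e2, mul_one]

theorem pre : CfsgLib.Zass.Pre G (G ⧸ NN(M)) := by
  have hthree : ∀ g : G, ∀ a b c : G ⧸ NN(M), a ≠ b → b ≠ c → a ≠ c → g • a = a → g • b = b →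
      g • c = c → g = 1 := by
    intro g a b c hab hbc hac ha hb hc
    obtain ⟨k, hk1, hk2⟩ := h.exists_pair_map h2 ht ht2 htz hab
    have key := h.three_base h2 ht ht2 htz (g := k⁻¹ * g * k) (y := k⁻¹ • c)
      (by rw [mul_smul, mul_smul, hk1, ha, ← hk1, inv_smul_smul])
      (by rw [mul_smul, mul_smul, hk2, hb, ← hk2, inv_smul_smul])
      (by rw [mul_smul, mul_smul, smul_inv_smul, hc])
      (fun e => hac (by rw [← hk1, ← e, smul_inv_smul]))
      (fun e => hbc (by rw [← hk2, ← e, smul_inv_smul]))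
    calc g = k * (k⁻¹ * g * k) * k⁻¹ := by group
      _ = 1 := by rw [key]; group
  refine ⟨⟨fun {g g'} hgg => ?_⟩, ?_, hthree, ⟨z, h.z_ne, pt, qt, (h.pt_ne h2 ht ht2 htz).symm,
    ((h.pair h2 ht ht2 htz).2 h.z_mem).1, ((h.pair h2 ht ht2 htz).2 h.z_mem).2⟩⟩
  · obtain ⟨m, hm, hm1⟩ : ∃ m ∈ M, m ≠ 1 := by
      by_contra hb; push Not at hb
      exact h.ne ((Subgroup.eq_bot_iff_forall _).2 hb)
    have hd : ∀ y : G ⧸ NN(M), (g'⁻¹ * g) • y = y := fun y => by rw [mul_smul, hgg, inv_smul_smul]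
    refine (inv_mul_eq_one.1 (hthree _ pt qt (m • qt) (h.pt_ne h2 ht ht2 htz).symm ?_ ?_ (hd _) (hd _) (hd _))).symm
    · intro e
      exact hm1 (congrArg Subtype.val ((h.regular_M h2 ht ht2 htz).1
        (a₁ := ⟨m, hm⟩) (a₂ := 1) (Subtype.ext (by simpa using e.symm))))
    · intro e
      exact h.pt_ne h2 ht ht2 htz (MulAction.injective m
        (e.symm.trans ((h.stab_pt h2 ht ht2 htz).2 (Subgroup.le_normalizer hm)).symm))
  · rw [MulAction.is_two_pretransitive_iff]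
    intro a b c d hab hcd
    obtain ⟨k, hk1, hk2⟩ := h.exists_pair_map h2 ht ht2 htz hab
    obtain ⟨l, hl1, hl2⟩ := h.exists_pair_map h2 ht ht2 htz hcd
    exact ⟨l * k⁻¹, by rw [mul_smul, ← hk1, inv_smul_smul, hl1], by rw [mul_smul, ← hk2, inv_smul_smul, hl2]⟩

theorem card_pair_eq {a b : G ⧸ NN(M)} (hab : a ≠ b) :
    Nat.card ↥(stabilizer G a ⊓ stabilizer G b) = Nat.card ↥(CC(M, z)) := by
  obtain ⟨k, hk1, hk2⟩ := h.exists_pair_map h2 ht ht2 htz hab
  have e : stabilizer G a ⊓ stabilizer G b = (CC(M, z)).map (MulAut.conj k).toMonoidHom := by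
    ext g
    constructor
    · rintro ⟨ha, hb⟩
      refine ⟨k⁻¹ * g * k, (h.pair h2 ht ht2 htz).1 ⟨?_, ?_⟩, by simp [mul_assoc]⟩
      · rw [mul_smul, mul_smul, hk1, show g • a = a from ha, ← hk1, inv_smul_smul]
      · rw [mul_smul, mul_smul, hk2, show g • b = b from hb, ← hk2, inv_smul_smul]
    · rintro ⟨c, hc, rfl⟩
      obtain ⟨c1, c2⟩ := (h.pair h2 ht ht2 htz).2 hc
      refine ⟨?_, ?_⟩
      · show (k * c * k⁻¹) • a = a
        rw [mul_smul, mul_smul, ← hk1, inv_smul_smul, c1]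
      · show (k * c * k⁻¹) • b = b
        rw [mul_smul, mul_smul, ← hk2, inv_smul_smul, c2]
  rw [e, Subgroup.card_map_of_injective (MulAut.conj k).injective]

theorem kernel : CfsgLib.Zass.Pre.IsKernel pt M where
  le k hk := (h.stab_pt h2 ht ht2 htz).2 (Subgroup.le_normalizer hk)
  conj_mem g hg k hk := conj_mem_of_mem ((h.stab_pt h2 ht ht2 htz).1 hg) hk
  fix k hk hk1 c hc := by
    by_contra hne
    obtain ⟨⟨m, hm⟩, hmy⟩ := (h.regular_M h2 ht ht2 htz).2 ⟨c, hne⟩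
    have hmy' : m • qt = c := congrArg Subtype.val hmy
    exact hk1 (mul_eq_right.1 (congrArg Subtype.val ((h.regular_M h2 ht ht2 htz).1
      (a₁ := ⟨k * m, M.mul_mem hk hm⟩) (a₂ := ⟨m, hm⟩)
      (Subtype.ext (show (k * m) • qt = m • qt by rw [mul_smul, hmy', hc])))))
  regular y w hy hw := by
    obtain ⟨⟨m, hm⟩, hmy⟩ := (h.regular_M h2 ht ht2 htz).2 ⟨y, hy⟩
    obtain ⟨⟨m', hm'⟩, hmw⟩ := (h.regular_M h2 ht ht2 htz).2 ⟨w, hw⟩
    exact ⟨m' * m⁻¹, M.mul_mem hm' (M.inv_mem hm), by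
      rw [← show m • qt = y from congrArg Subtype.val hmy, mul_smul, inv_smul_smul]
      exact congrArg Subtype.val hmw⟩
  mem g hg hfix := by
    obtain ⟨c, hc, m, hm, rfl⟩ := h.exists_decomp ((h.stab_pt h2 ht ht2 htz).1 hg)
    by_cases hc1 : c = 1
    · rw [hc1, one_mul]; exact hm
    exfalso
    -- the map `x ↦ [c, x]` is onto `M`, so `c m` fixes a translate of the second point
    let f : M → M := fun x => ⟨(c⁻¹ * x * c⁻¹⁻¹) * (x : G)⁻¹,
      M.mul_mem (conj_mem_of_mem (inv_mem hc.1) x.2) (M.inv_mem x.2)⟩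
    have hf : Function.Injective f := by
      intro x y e
      have e' : (c⁻¹ * (x : G) * c⁻¹⁻¹) * (x : G)⁻¹ = (c⁻¹ * (y : G) * c⁻¹⁻¹) * (y : G)⁻¹ :=
        congrArg Subtype.val e
      have hd : (y : G)⁻¹ * x ∈ M := M.mul_mem (M.inv_mem y.2) x.2
      by_contra hxy
      have hd1 : (y : G)⁻¹ * x ≠ 1 := fun e0 => hxy (Subtype.ext (inv_mul_eq_one.1 e0).symm)
      refine hc1 (h.fpf hc hd hd1 ?_)
      have e2 : c⁻¹ * ((y : G)⁻¹ * x) * c⁻¹⁻¹ = (y : G)⁻¹ * x := by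
        calc c⁻¹ * ((y : G)⁻¹ * x) * c⁻¹⁻¹ = (c⁻¹ * (y : G) * c⁻¹⁻¹)⁻¹ * (c⁻¹ * x * c⁻¹⁻¹) := by group
          _ = (c⁻¹ * (y : G) * c⁻¹⁻¹)⁻¹ * ((c⁻¹ * x * c⁻¹⁻¹) * (x : G)⁻¹) * x := by group
          _ = _ := by rw [e']; group
      calc c * ((y : G)⁻¹ * x) = c * (c⁻¹ * ((y : G)⁻¹ * x) * c⁻¹⁻¹) := by rw [e2]
        _ = _ := by group
    obtain ⟨⟨x, hx⟩, hfx⟩ := (Finite.injective_iff_surjective.1 hf) ⟨m, hm⟩
    have hfx' : (c⁻¹ * x * c⁻¹⁻¹) * x⁻¹ = m := congrArg Subtype.val hfx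
    have e : (c * m) * x = x * c := by rw [← hfx']; group
    have hfx2 : (c * m) • (x • qt) = x • qt := by
      rw [← mul_smul, e, mul_smul, ((h.pair h2 ht ht2 htz).2 hc).2]
    exact ((h.regular_M h2 ht ht2 htz).2 ⟨x • qt, fun e0 => h.pt_ne h2 ht ht2 htz (MulAction.injective x
      (e0.trans ((h.stab_pt h2 ht ht2 htz).2 (Subgroup.le_normalizer hx)).symm))⟩).elim
      fun _ _ => h.pt_ne h2 ht ht2 htz (MulAction.injective x
        ((hfix _ hfx2).trans ((h.stab_pt h2 ht ht2 htz).2 (Subgroup.le_normalizer hx)).symm))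

end Big

end CfsgLib.TICount
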