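import Cfsg.Agent.Lib.TICount.Two

/-!
Identification of the doubly transitive case as `PGL₂` or `PSL₂`.
-/

set_option autoImplicit false
set_option linter.style.haveILetI false
set_option linter.unusedSectionVars false

open Subgroup MulAction

namespace CfsgLib.TICount

universe u

variable {G : Type u} [Group G]

local notation "C(" x ")" => Subgroup.centralizer ({x} : Set _)
local notation "NN(" M ")" => Subgroup.normalizer (SetLike.coe M)
local notation "CC(" M "," z ")" => NN(M) ⊓ C(z)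

theorem charP_of_card {F : Type*} [Field F] [Fintype F] {p f : ℕ} [Fact p.Prime]
    (hF : Fintype.card F = p ^ f) : CharP F p :=
  charP_of_card_eq_prime_pow hF

namespace Big

variable [Finite G] {M : Subgroup G} {z : G} (h : Big M z)
  (h2 : Nat.card C(z) = 2 * Nat.card ↥(CC(M, z)))
include h h2


theorem c_dvd : (Nat.card ↥(CC(M, z))) ∣ (Nat.card M) - 1 :=
  Cfsg.Agent.S0738.card_dvd (CC(M, z)) M (fun l hl x hx => conj_mem_of_mem hl.1 hx)
    fun l hl x hx hx1 e => h.fpf hl hx hx1 (mul_inv_eq_iff_eq_mul.1 e)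

theorem le_two_c : (Nat.card M) ≤ 2 * (Nat.card ↥(CC(M, z))) + 1 := by
  have h1 := (C(z) : Subgroup G).index_mul_card
  have h3 := h.index_cent_le
  have h4 := h.card_invol_eq
  rw [h.card_G_two h2, h2] at h1
  rw [h2] at h4
  have h5 : 2 * (C(z) : Subgroup G).index = (Nat.card M) * ((Nat.card M) + 1) :=
    Nat.eq_of_mul_eq_mul_right (Nat.card_pos (α := ↥(CC(M, z)))) (by linarith [h1])
  have h7 : (Nat.card M) * ((Nat.card M) + 1) ≤ (Nat.card M) * (2 * ((Nat.card ↥(CC(M, z))) + 1)) := by nlinarith [h3, h4, h5]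
  have h6 := Nat.le_of_mul_le_mul_left h7 Nat.card_pos
  omega

theorem c_cases : (Nat.card ↥(CC(M, z))) + 1 = (Nat.card M) ∨ (2 * (Nat.card ↥(CC(M, z))) + 1 = (Nat.card M) ∧ (Nat.card M) % 4 = 1) := by
  obtain ⟨j, hj⟩ := h.c_dvd h2
  have h1 := h.C_lt
  have h3 := h.le_two_c h2
  have h4 : 1 < (Nat.card M) := h.card_M_pos
  obtain ⟨i, hi⟩ := h.two_dvd_C
  have hj2 : j ≤ 2 := by
    by_contra hjj
    have : (Nat.card ↥(CC(M, z))) * 3 ≤ (Nat.card ↥(CC(M, z))) * j := Nat.mul_le_mul_left _ (by omega)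
    have : 0 < (Nat.card ↥(CC(M, z))) := Nat.card_pos
    omega
  interval_cases j <;> omega

variable {t : G} (ht : t ∉ NN(M)) (ht2 : orderOf t = 2) (htz : t * z = z * t)
include ht ht2 htz

theorem fixed_z {y : G ⧸ NN(M)} (hy : z • y = y) :
    y = QuotientGroup.mk 1 ∨ y = QuotientGroup.mk t := by
  by_contra hne
  push Not at hne
  obtain ⟨a, b⟩ := (h.pair h2 ht ht2 htz).2 h.z_mem
  exact h.z_ne (h.three_base h2 ht ht2 htz a b hy hne.1 hne.2)

theorem no_regular_normal (hq : 5 ≤ (Nat.card M)) (R : Subgroup G) [R.Normal]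
    (htr : IsPretransitive R (G ⧸ NN(M))) : ∃ a : G ⧸ NN(M), stabilizer R a ≠ ⊥ := by
  classical
  by_contra hall
  push Not at hall
  have hfree : ∀ r ∈ R, r • (QuotientGroup.mk 1 : G ⧸ NN(M)) = QuotientGroup.mk 1 → r = 1 := by
    intro r hr e
    have h1 : (⟨r, hr⟩ : R) ∈ stabilizer R (QuotientGroup.mk 1 : G ⧸ NN(M)) := e
    rw [hall _, Subgroup.mem_bot] at h1
    exact congrArg Subtype.val h1
  have hbij : Function.Bijective (fun r : R => (r : G) • (QuotientGroup.mk 1 : G ⧸ NN(M))) := by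
    refine ⟨fun r s e => ?_, fun y => ?_⟩
    · have h1 := hfree ((s : G)⁻¹ * r) (R.mul_mem (R.inv_mem s.2) r.2) (by
        rw [mul_smul, inv_smul_eq_iff]; exact e)
      exact Subtype.ext (inv_mul_eq_one.1 h1).symm
    · obtain ⟨r, hr⟩ := htr.exists_smul_eq (QuotientGroup.mk 1 : G ⧸ NN(M)) y
      exact ⟨r, hr⟩
  have hcard : Nat.card R = (Nat.card M) + 1 := by rw [← h.card_points h2]; exact Nat.card_eq_of_bijective _ hbij
  obtain ⟨⟨r0, hr0R⟩, hr0⟩ := hbij.2 (QuotientGroup.mk t)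
  have hnorm : ∀ g : G, ∀ r ∈ R, g * r * g⁻¹ ∈ R := fun g r hr => Subgroup.Normal.conj_mem inferInstance r hr g
  have hz1 : z⁻¹ • (QuotientGroup.mk 1 : G ⧸ NN(M)) = QuotientGroup.mk 1 :=
    (h.stab_pt h2 ht ht2 htz).2 (inv_mem h.hzN)
  have hcent : ∀ r ∈ R, z * r = r * z → r = 1 ∨ r = r0 := by
    intro r hr hrz
    have h1 : z • (r • (QuotientGroup.mk 1 : G ⧸ NN(M))) = r • QuotientGroup.mk 1 := by
      rw [← mul_smul, hrz, mul_smul, (h.stab_pt h2 ht ht2 htz).2 h.hzN]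
    rcases h.fixed_z h2 ht ht2 htz h1 with e | e
    · exact Or.inl (hfree r hr e)
    · exact Or.inr (congrArg Subtype.val (hbij.1 (a₁ := ⟨r, hr⟩) (a₂ := ⟨r0, hr0R⟩) (e.trans hr0.symm)))
  have hr0z : z * r0 = r0 * z := by
    have h1 : (z * r0 * z⁻¹) • (QuotientGroup.mk 1 : G ⧸ NN(M)) = r0 • QuotientGroup.mk 1 := by
      rw [mul_smul, mul_smul, hz1, show r0 • (QuotientGroup.mk 1 : G ⧸ NN(M)) = QuotientGroup.mk t from hr0]
      exact ((h.pair h2 ht ht2 htz).2 h.z_mem).2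
    exact mul_inv_eq_iff_eq_mul.1
      (congrArg Subtype.val (hbij.1 (a₁ := ⟨_, hnorm z r0 hr0R⟩) (a₂ := ⟨r0, hr0R⟩) h1))
  have hr01 : r0 ≠ 1 := fun e => h.pt_ne h2 ht ht2 htz (hr0.symm.trans (by simp [e]))
  have hr02 : r0 * r0 = 1 := by
    rcases hcent _ (R.mul_mem hr0R hr0R) (by
      calc z * (r0 * r0) = (z * r0) * r0 := by group
        _ = (r0 * z) * r0 := by rw [hr0z]
        _ = r0 * (z * r0) := by group
        _ = r0 * (r0 * z) := by rw [hr0z]
        _ = _ := by group) with e | e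
    · exact e
    · exact absurd (mul_eq_right.1 e) hr01
  have hexp : ∀ r ∈ R, r * r = 1 := by
    intro r hr
    by_cases hr1 : r = 1
    · rw [hr1, one_mul]
    have hne : r • (QuotientGroup.mk 1 : G ⧸ NN(M)) ≠ QuotientGroup.mk 1 := fun e => hr1 (hfree r hr e)
    obtain ⟨⟨m, hm⟩, hmr⟩ := (h.regular_M h2 ht ht2 htz).2 ⟨_, hne⟩
    have hmr' : m • (QuotientGroup.mk t : G ⧸ NN(M)) = r • QuotientGroup.mk 1 := congrArg Subtype.val hmr
    have h1 : (m * r0 * m⁻¹) • (QuotientGroup.mk 1 : G ⧸ NN(M)) = r • QuotientGroup.mk 1 := by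
      rw [mul_smul, mul_smul, (h.stab_pt h2 ht ht2 htz).2 (inv_mem (Subgroup.le_normalizer hm)),
        show r0 • (QuotientGroup.mk 1 : G ⧸ NN(M)) = QuotientGroup.mk t from hr0, hmr']
    have e : m * r0 * m⁻¹ = r :=
      congrArg Subtype.val (hbij.1 (a₁ := ⟨_, hnorm m r0 hr0R⟩) (a₂ := ⟨r, hr⟩) h1)
    calc r * r = m * (r0 * r0) * m⁻¹ := by rw [← e]; group
      _ = 1 := by rw [hr02]; group
  have hcomm : ∀ r ∈ R, ∀ s ∈ R, r * s = s * r := fun r hr s hs => by
    have := hexp _ (R.mul_mem hr hs)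
    calc r * s = (r * s)⁻¹ := (inv_eq_of_mul_eq_one_right this).symm
      _ = s⁻¹ * r⁻¹ := mul_inv_rev r s
      _ = s * r := by rw [inv_eq_of_mul_eq_one_right (hexp r hr), inv_eq_of_mul_eq_one_right (hexp s hs)]
  have hf : ∀ r ∈ R, r * (z * r * z⁻¹) = 1 ∨ r * (z * r * z⁻¹) = r0 := by
    intro r hr
    refine hcent _ (R.mul_mem hr (hnorm z r hr)) ?_
    have hzz : z⁻¹ = z := h.z_inv
    calc z * (r * (z * r * z⁻¹)) = (z * r * z⁻¹) * ((z * z) * r * z⁻¹⁻¹⁻¹) := by group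
      _ = ((z * r * z⁻¹) * r) * z⁻¹ := by rw [h.zz, one_mul, inv_inv]; group
      _ = (r * (z * r * z⁻¹)) * z := by rw [hcomm _ (hnorm z r hr) r hr, hzz]
  have hker : ∀ r ∈ R, r * (z * r * z⁻¹) = 1 → r = 1 ∨ r = r0 := by
    intro r hr e
    refine hcent r hr (mul_inv_eq_iff_eq_mul.1 ?_)
    exact (eq_inv_of_mul_eq_one_right e).trans (inv_eq_of_mul_eq_one_right (hexp r hr))
  have hle : Nat.card R ≤ 4 := by
    by_cases hall1 : ∀ r ∈ R, r * (z * r * z⁻¹) = 1
    · refine le_trans (Nat.card_le_card_of_surjective (fun b : Bool => if b then (⟨r0, hr0R⟩ : R) else 1)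
        fun r => ?_) (by simp)
      rcases hker r r.2 (hall1 r r.2) with e | e
      · exact ⟨false, Subtype.ext (by simp [e])⟩
      · exact ⟨true, Subtype.ext (by simp [e])⟩
    · push Not at hall1
      obtain ⟨r1, hr1, hr1n⟩ := hall1
      have hr1' : r1 * (z * r1 * z⁻¹) = r0 := (hf r1 hr1).resolve_left hr1n
      refine le_trans (Nat.card_le_card_of_surjective (fun b : Bool × Bool =>
        (if b.1 then (⟨r1, hr1⟩ : R) else 1) * (if b.2 then (⟨r0, hr0R⟩ : R) else 1)) fun r => ?_) (by simp)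
      rcases hf r r.2 with e | e
      · rcases hker r r.2 e with e' | e'
        · exact ⟨(false, false), Subtype.ext (by simp [e'])⟩
        · exact ⟨(false, true), Subtype.ext (by simp [e'])⟩
      · have hrr : (r1⁻¹ * r) * (z * (r1⁻¹ * r) * z⁻¹) = 1 := by
          have hi : r1⁻¹ = r1 := inv_eq_of_mul_eq_one_right (hexp r1 hr1)
          calc (r1⁻¹ * r) * (z * (r1⁻¹ * r) * z⁻¹)
              = r1⁻¹ * ((r : G) * (z * r1⁻¹ * z⁻¹)) * (z * r * z⁻¹) := by group
            _ = r1 * ((z * r1 * z⁻¹) * r) * (z * r * z⁻¹) := by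
                rw [hi, hcomm _ r.2 _ (hnorm z r1 hr1)]
            _ = (r1 * (z * r1 * z⁻¹)) * ((r : G) * (z * r * z⁻¹)) := by group
            _ = 1 := by rw [hr1', e, hr02]
        rcases hker _ (R.mul_mem (R.inv_mem hr1) r.2) hrr with e' | e'
        · exact ⟨(true, false), Subtype.ext (by simp [(inv_mul_eq_one.1 e')])⟩
        · exact ⟨(true, true), Subtype.ext (by
            simp only [↓reduceIte, Subgroup.coe_mul]; rw [← e', mul_inv_cancel_left])⟩
  omega

theorem isZassenhaus (hq : 5 ≤ (Nat.card M)) : Cfsg.IsZassenhausGroup G (G ⧸ NN(M)) := by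
  have hP := h.pre h2 ht ht2 htz
  exact ⟨hP.faithful, hP.two, hP.three, hP.exTwo, fun N hN htr => by
    haveI := hN
    exact h.no_regular_normal h2 ht ht2 htz hq N htr⟩

/-- The doubly transitive case. -/
theorem two_conclusion :
    ∃ (F : Type) (_ : Field F) (_ : Fintype F) (p : ℕ) (_ : Fact p.Prime) (_ : CharP F p),
      Fintype.card F = (Nat.card M) ∧ Cfsg.IsElementaryAbelian p M ∧
        (Nonempty (G ≃* (GL (Fin 2) F ⧸ Subgroup.center (GL (Fin 2) F))) ∨
         (Fintype.card F % 4 = 1 ∧ Nonempty (G ≃* Matrix.ProjectiveSpecialLinearGroup (Fin 2) F))) := by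
  classical
  haveI := Fintype.ofFinite (G ⧸ NN(M))
  have hP := h.pre h2 ht ht2 htz
  have hn : Fintype.card (G ⧸ NN(M)) = (Nat.card M) + 1 := by rw [← Nat.card_eq_fintype_card, h.card_points h2]
  have hab : (QuotientGroup.mk 1 : G ⧸ NN(M)) ≠ QuotientGroup.mk t := (h.pt_ne h2 ht ht2 htz).symm
  have hd : ∀ a b : G ⧸ NN(M), a ≠ b → Nat.card ↥(stabilizer G a ⊓ stabilizer G b) = (Nat.card ↥(CC(M, z))) :=
    fun a b e => h.card_pair_eq h2 ht ht2 htz e
  have hcomm : ∀ x ∈ M, ∀ y ∈ M, x * y = y * x := fun x hx y hy => h.M_comm hx hy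
  have hMc : IsMulCommutative M := ⟨⟨fun x y => Subtype.ext (hcomm x x.2 y y.2)⟩⟩
  have hK := h.kernel h2 ht ht2 htz
  -- the kernel is elementary abelian
  obtain ⟨p, f, hp, hel, hq⟩ : ∃ p f : ℕ, p.Prime ∧ (∀ u ∈ M, u ^ p = 1) ∧ (Nat.card M) = p ^ f := by
    rcases Nat.lt_or_ge (Nat.card M) 5 with hlt | hge
    · have h1 := h.card_M_pos
      obtain ⟨k, hk⟩ := h.odd_card
      refine ⟨3, 1, Nat.prime_three, fun u hu => ?_, by omega⟩
      have h3 : Nat.card M = 3 := by omega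
      have h4 := pow_card_eq_one' (x := (⟨u, hu⟩ : M))
      rw [h3] at h4
      simpa using congrArg Subtype.val h4
    · obtain ⟨-, p, f, hp, hel, hcard⟩ := Cfsg.Agent.S0738.result (h.isZassenhaus h2 ht ht2 htz hge) hab
        (by rw [hd _ _ hab, hn]; have := h.le_two_c h2; omega) M (fun k hk => hK.le k hk)
        ⟨fun x hx g => hK.conj_mem (g : G) g.2 (x : G) hx⟩
        (fun y w hy hw => by
          obtain ⟨k, hk, hky⟩ := hK.regular y w hy hw
          exact ⟨⟨k, hk⟩, hky, fun k' hk' => Subtype.ext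
            (hK.inj hy k'.2 hk (hk'.trans hky.symm))⟩)
      exact ⟨p, f, hp, hel, by omega⟩
  haveI := Fact.mk hp
  rcases h.c_cases h2 with hc | ⟨hc, hq4⟩
  · -- sharply triply transitive
    obtain ⟨hS, -⟩ := hP.isS3_of_sharp (fun a b e => by rw [hd a b e, hn]; omega)
    obtain ⟨c3, hc31, hc32⟩ : ∃ c3 : G ⧸ NN(M), c3 ≠ QuotientGroup.mk 1 ∧ c3 ≠ QuotientGroup.mk t := by
      by_contra hne
      push Not at hne
      have h3 : Fintype.card (G ⧸ NN(M)) ≤ ({QuotientGroup.mk 1, QuotientGroup.mk t} : Finset (G ⧸ NN(M))).card :=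
        Finset.card_le_card fun x _ => by
          by_cases hx : x = QuotientGroup.mk 1
          · simp [hx]
          · simp [hne x hx]
      rw [Finset.card_pair hab] at h3
      have := h.card_M_pos
      omega
    obtain ⟨s, s1, s2, s3⟩ := hS.exists_three hab hc31.symm hc32.symm hab.symm hc32.symm hc31.symm
    obtain ⟨F, iF, iFF, hF, ⟨e⟩⟩ := hS.exists_mulEquiv_pgl hab hc31.symm hc32.symm s1 s2 s3
      (fun m m' a1 a2 b1 b2 => h.C_comm ((h.pair h2 ht ht2 htz).1 ⟨a1, a2⟩) ((h.pair h2 ht ht2 htz).1 ⟨b1, b2⟩))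
    have hFq : Fintype.card F = (Nat.card M) := by omega
    exact ⟨F, iF, iFF, p, inferInstance, charP_of_card (hFq.trans hq), hFq, ⟨hMc, hel⟩, Or.inl ⟨e⟩⟩
  · -- half-sharp: `PSL₂`
    obtain ⟨i, hi⟩ := h.two_dvd_C
    have hcpos : 0 < (Nat.card ↥(CC(M, z))) := Nat.card_pos
    rcases CfsgLib.ZassAbelian.classification (h.isZassenhaus h2 ht ht2 htz (by omega)) hK hcomm with
      ⟨htr, hs⟩ | ⟨F, iF, iFF, hF2, ⟨e⟩⟩
    · exfalso
      have hS : CfsgLib.SharpThree.IsS3 G (G ⧸ NN(M)) := ⟨htr, hs⟩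
      have := hS.card_pair_stabilizer hab (by omega)
      rw [hd _ _ hab, hn] at this
      omega
    · have hodd : Odd (Fintype.card F) := Nat.odd_iff.2 (FiniteField.odd_card_of_char_ne_two hF2)
      have h1 := CfsgLib.Linear.card_PSL_mul (n := Fin 2) (F := F)
      rw [CfsgLib.Linear.card_SL_two, ← Nat.card_congr e.toEquiv, h.card_G_two h2, Fintype.card_fin] at h1
      have hg : Nat.gcd 2 (Fintype.card F - 1) = 2 :=
        Nat.gcd_eq_left (even_iff_two_dvd.1 (Nat.Odd.sub_odd hodd odd_one))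
      rw [hg] at h1
      have h3 : (Nat.card M) * ((Nat.card M) ^ 2 - 1) = 2 * ((Nat.card ↥(CC(M, z))) * (Nat.card M) * ((Nat.card M) + 1)) := by
        obtain ⟨r, hr⟩ : ∃ r, (Nat.card M) = r + 1 := ⟨(Nat.card M) - 1, by have := h.card_M_pos; omega⟩
        have hr2 : 2 * (Nat.card ↥(CC(M, z))) = r := by omega
        rw [hr, show (r + 1) ^ 2 - 1 = r * (r + 2) by ring_nf; omega, ← hr2]
        ring
      have hFq : Fintype.card F = (Nat.card M) := q_eq_of_card Fintype.card_pos (le_of_lt h.card_M_pos) (by rw [h3, h1])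
      exact ⟨F, iF, iFF, p, inferInstance, charP_of_card (hFq.trans hq), hFq, ⟨hMc, hel⟩,
        Or.inr ⟨by rw [hFq]; exact hq4, ⟨e⟩⟩⟩

end Big

end CfsgLib.TICount
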